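import Cfsg.Agent.Lib.S3342CentZ.Levi
import Mathlib.GroupTheory.Complement

/-!
The order of the centraliser of the involution.
-/

set_option autoImplicit false
set_option maxRecDepth 20000
set_option synthInstance.maxSize 10000
set_option linter.style.haveILetI false
set_option linter.unusedSectionVars false

namespace Cfsg.Agent.S3342CentZ

open Cfsg.Agent.Hayden Cfsg.Agent.GridBlock
open Cfsg.Agent.ThreeTI.Grid (rep)

theorem card_of_split {G : Type*} [Group G] [Finite G] {ι : GMod →* G} {Q : GMod → Subgroup G} {O : Subgroup G}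
    (hs : Split ι Q O) : Nat.card G ≤ 36 * Nat.card O := by
  classical
  have hsurj : Function.Surjective fun x : O × GMod => (x.1 : G) * ι x.2 := fun g => by
    obtain ⟨o, ho, h, e⟩ := hs.prod g
    exact ⟨(⟨o, ho⟩, h), e.symm⟩
  refine (Nat.card_le_card_of_surjective _ hsurj).trans (le_of_eq ?_)
  rw [Nat.card_prod, Nat.card_eq_fintype_card (α := GMod), show Fintype.card GMod = 36 by decide +kernel, mul_comm]

variable {G : Type*} [Group G] [Finite G] {el : ℕ → G} {s m : G}

theorem img_z_eq_bot (C : Cfg el) : img el (Subgroup.zpowers (el 81)) = ⊥ := by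
  rw [eq_bot_iff]
  intro x hx
  obtain ⟨g, hg, rfl⟩ := mem_img hx
  rw [Subgroup.mem_bot]
  exact (QuotientGroup.eq_one_iff g).2 hg

/-- The facts about the centraliser of the involution. -/
theorem exists_facts (C : Cfg el) (S : C.Sw s) (N : C.Neg s m) (hO : ∀ v < 27, C.Orb v ↔ v ∈ O8)
    (hp : ∀ g, Commute g (el (vi 10)) → g ∈ Subgroup.normalizer (C.VJ : Set G)) {U : Subgroup G}
    (hU : Core63 C S N U) (hU2 : ∀ u ∈ U, u * u = 1) (hU4 : Nat.card (img el U) ≤ 4)
    (hgap : ∀ n : G, n * el 81 * n⁻¹ = s → n * el 36 * n⁻¹ = (el 1)⁻¹ → n * el 63 * n⁻¹ = (el 63)⁻¹ →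
      ∀ d ∈ U, nrm el d = 1 → n * d * n⁻¹ ∈ U → nrm el (n * d * n⁻¹) = 1 → d = 1) :
    (∀ k < 24, ∀ l < 24, Commute (el (27 * k)) (s * el (27 * l) * s⁻¹)) ∧
    (∀ u ∈ U, ∀ k < 24, T (27 * k) (27 * k) = 81 →
      Commute u (el (27 * k)) ∧ Commute u (s * el (27 * k) * s⁻¹)) ∧
    Nat.card (cz el) ≤ 1152 * Nat.card (img el U) := by
  obtain ⟨Q, O, hs, L, hQf, hQe, hL⟩ := exists_levi C S N hO hp hU hU2 hU4 hgap
  refine ⟨hL.comm, fun u hu k hk hk2 => hL.cent u hu k ?_, ?_⟩
  · exact (show ∀ k < 24, T (27 * k) (27 * k) = 81 → k ∈ q8 by decide +kernel) k hk hk2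
  · have hz2 : Nat.card (zs el) = 2 := by
      rw [Nat.card_congr (Subgroup.subgroupOfEquivOfLe (Subgroup.zpowers_le.2
        (Subgroup.mem_centralizer_singleton_iff.2 rfl) : Subgroup.zpowers (el 81) ≤ cz el)).toEquiv, Nat.card_zpowers]
      exact orderOf_eq_prime (by rw [pow_two, C.z_sq]) (z_ne_one C)
    have hq := quat_four C
    have hl : Nat.card (lift el O) = 2 * Nat.card O := by
      rw [lift, Subgroup.card_map_of_injective (cz el).subtype_injective]
      set H := O.comap (QuotientGroup.mk' (zs el))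
      have h4 := Subgroup.card_mul_index O
      have h5 : H.index = O.index := Subgroup.index_comap_of_surjective O (QuotientGroup.mk'_surjective _)
      have h6 := Subgroup.card_mul_index H
      have h7 : Nat.card (cz el) = Nat.card (cz el ⧸ zs el) * Nat.card (zs el) :=
        Subgroup.card_eq_card_quotient_mul_card_subgroup _
      rw [h5, h7, ← h4, hz2] at h6
      have := Nat.eq_of_mul_eq_mul_right (Nat.pos_of_ne_zero Subgroup.index_ne_zero_of_finite)
        (h6.trans (by ring : Nat.card O * O.index * 2 = 2 * Nat.card O * O.index))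
      exact this
    have hc := hL.card
    rw [hl] at hc
    have hX := card_of_split hs
    rw [Subgroup.card_eq_card_quotient_mul_card_subgroup (zs el), hz2]
    calc Nat.card (cz el ⧸ zs el) * 2 ≤ 36 * Nat.card O * 2 := Nat.mul_le_mul_right 2 hX
      _ = 36 * (2 * Nat.card O) := by ring
      _ ≤ 36 * (2 * (Nat.card (img el U) * 4 * 4)) := by
          rw [hc]
          exact Nat.mul_le_mul_left 36 (Nat.mul_le_mul_left 2
            (Nat.mul_le_mul (Nat.mul_le_mul_left _ hq) hq))
      _ = _ := by ring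

/-- The branch with the small core. -/
theorem small_facts (C : Cfg el) (S : C.Sw s) (N : C.Neg s m) (hO : ∀ v < 27, C.Orb v ↔ v ∈ O8)
    (hp : ∀ g, Commute g (el (vi 10)) → g ∈ Subgroup.normalizer (C.VJ : Set G))
    (h63 : ∀ g, Commute g (el (vi 19)) → g ∈ Subgroup.normalizer (C.VJ : Set G)) :
    (∀ k < 24, ∀ l < 24, Commute (el (27 * k)) (s * el (27 * l) * s⁻¹)) ∧ Nat.card (cz el) ≤ 1152 := by
  have hmem : ∀ u ∈ Subgroup.zpowers (el 81), u = 1 ∨ u = el 81 := by
    intro u hu
    obtain ⟨n, rfl⟩ := (isOfFinOrder_of_finite _).mem_powers_iff_mem_zpowers.2 hu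
    show el 81 ^ n = 1 ∨ el 81 ^ n = el 81
    rcases Nat.even_or_odd' n with ⟨k, rfl | rfl⟩
    · left; rw [pow_mul, pow_two, C.z_sq, one_pow]
    · right; rw [pow_succ, pow_mul, pow_two, C.z_sq, one_pow, one_mul]
  have hsq : ∀ u ∈ Subgroup.zpowers (el 81), u * u = 1 := fun u hu => by
    rcases hmem u hu with rfl | rfl
    exacts [one_mul _, C.z_sq]
  obtain ⟨h1, -, h3⟩ := exists_facts C S N hO hp (core63_small C S N hO h63) hsq
    (by rw [img_z_eq_bot C, Subgroup.card_bot]; norm_num) fun n _ _ _ d hd hnrm _ _ => by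
      rcases hmem d hd with rfl | rfl
      · rfl
      · exfalso
        have hc : el 36 * el 81 * (el 36)⁻¹ = el 81 := by
          have h : Commute (el 36) (el 81) := (plane_z C (v := 10) (by decide)).symm
          rw [h.eq, mul_inv_cancel_right]
        refine z_ne_one C ?_
        rw [nrm, hc, show el 36 * el 36 * el 81 * (el 36 * el 36)⁻¹ =
          el 36 * (el 36 * el 81 * (el 36)⁻¹) * (el 36)⁻¹ by group, hc, hc, C.z_sq, one_mul] at hnrm
        exact hnrm
  exact ⟨h1, h3.trans (by rw [img_z_eq_bot C, Subgroup.card_bot])⟩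

end Cfsg.Agent.S3342CentZ
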