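import Cfsg.Agent.Lib.S3342CentZ.Quot
import Cfsg.Agent.Lib.GridBlock.Center

/-!
The two Levi factors commute, and the core at `el 63` centralises their quaternion groups.
-/

set_option autoImplicit false
set_option maxRecDepth 20000
set_option synthInstance.maxSize 10000
set_option linter.style.haveILetI false
set_option linter.unusedSectionVars false

namespace Cfsg.Agent.S3342CentZ

open Cfsg.Agent.Hayden Cfsg.Agent.GridBlock
open Cfsg.Agent.ThreeTI.Grid (rep)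

/-- The exchange of the two pairs of root elements, on points. -/
def pairMap : ℕ × ℕ × ℕ := (22, 20, 14)

/-- Representatives of the quaternion group modulo its centre. -/
def rep4 (r : ℕ) : ℕ := [0, 6, 14, 17].getD r 0

theorem chk_pair : (∀ v < 27, app pairMap (app pairMap v) = v) ∧ sing pairMap = false ∧
    (∀ O ∈ [O4, O8], ∀ v ∈ O, app pairMap v ∈ O) ∧
    (∀ v < 27, app pairMap (app zMap v) = app swMap (app pairMap v)) ∧
    app pairMap 19 = vneg 19 ∧ app pairMap 10 = 6 ∧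
    (∀ v < 27, T (T (vi v) 81) (T (vi v) 81) = 0 →
      ∃ w < 27, app swMap w = w ∧ cj (vi w) 81 = T (vi v) 81) ∧
    (∀ v < 27, app zMap (app zMap v) = v) := by decide +kernel

theorem chk_quat_act : (∀ k ∈ q8, ∃ l ∈ q8, cj 54 (27 * k) = 27 * l) ∧
    (∀ k ∈ q8, ∃ l ∈ q8, cj 36 (27 * k) = 27 * l) ∧ (∀ k ∈ q8, ∃ l ∈ q8, cj 63 (27 * k) = 27 * l) ∧
    (∀ k ∈ q8, ∃ l ∈ q8, T (iv (27 * l)) (cj 63 (27 * l)) = 27 * k ∨
      T (iv (27 * l)) (cj 63 (27 * l)) = T (27 * k) 81) ∧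
    (∀ k ∈ q8, ∃ l ∈ q8, T (iv (27 * l)) (cj 54 (27 * l)) = 27 * k ∨
      T (iv (27 * l)) (cj 54 (27 * l)) = T (27 * k) 81) ∧
    (∀ k ∈ q8, T (27 * k) (27 * k) = 0 → 27 * k = 0 ∨ 27 * k = 81) ∧
    (∀ k ∈ q8, T (27 * k) (27 * k) = 81 → T (T (27 * k) (iv (cj 63 (27 * k)))) (T (27 * k) (iv (cj 63 (27 * k)))) = 81) ∧
    (∀ k < 24, ∃ q ∈ q8, ∃ j < 3, T (27 * q) (vi (vsm j 18)) = 27 * k) := by decide +kernel

theorem chk_quat_gen : ∀ k ∈ q8, T (27 * k) (27 * k) = 81 → ∀ b ∈ [54, 36], ∀ x ∈ q8,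
    ∃ i < 2, ∃ j < 2, ∃ o < 2, T (T (T 0 (if i = 0 then 0 else 27 * k)) (if j = 0 then 0 else cj b (27 * k)))
      (if o = 0 then 0 else 81) = 27 * x := by decide +kernel

variable {G : Type*} [Group G] [Finite G] {el : ℕ → G} {s m : G} (C : Cfg el)
include C

theorem quat_z {u : G} (h : u = 1 ∨ u = el 81) : u ∈ quat C := by
  rcases h with rfl | rfl
  exacts [one_mem _, z_mem_quat C]

theorem quat_lt {k : ℕ} (hk : k ∈ q8) : 27 * k < 648 := (chk_q8.1 k hk).1

theorem quat_conj {b : ℕ} (hb : b < 648) (h : ∀ k ∈ q8, ∃ l ∈ q8, cj b (27 * k) = 27 * l) {a : G}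
    (ha : a ∈ quat C) : el b * a * (el b)⁻¹ ∈ quat C := by
  obtain ⟨k, hk, rfl⟩ := ha
  obtain ⟨l, hl, e⟩ := h k hk
  exact ⟨l, hl, by rw [C.conj hb (quat_lt C hk), e]⟩

theorem quat_self_comm {b : ℕ} (hb : b < 648)
    (h : ∀ k ∈ q8, ∃ l ∈ q8, T (iv (27 * l)) (cj b (27 * l)) = 27 * k ∨
      T (iv (27 * l)) (cj b (27 * l)) = T (27 * k) 81) {a : G} (ha : a ∈ quat C) :
    ∃ a₀ ∈ quat C, ∃ w, (w = 1 ∨ w = el 81) ∧ a = a₀⁻¹ * (el b * a₀ * (el b)⁻¹) * w := by
  obtain ⟨k, hk, rfl⟩ := ha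
  obtain ⟨l, hl, e⟩ := h k hk
  have e' : (el (27 * l))⁻¹ * (el b * el (27 * l) * (el b)⁻¹) = el (T (iv (27 * l)) (cj b (27 * l))) := by
    rw [C.conj hb (quat_lt C hl), C.el_inv (quat_lt C hl), C.mul _ (chk_iv _ (quat_lt C hl)).1 _
      (cj_lt hb (quat_lt C hl))]
  refine ⟨_, ⟨l, hl, rfl⟩, ?_⟩
  rcases e with e | e
  · exact ⟨1, Or.inl rfl, by rw [mul_one, e', e]⟩
  · refine ⟨el 81, Or.inr rfl, ?_⟩
    rw [e', e, ← C.mul _ (quat_lt C hk) 81 (by norm_num), mul_assoc, C.z_sq, mul_one]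

theorem quat_subset {a : G} (ha : a ∈ quat C) (ha2 : a * a = el 81) {b : ℕ} (hb : b ∈ [54, 36]) {R : Subgroup G}
    (hR : el 81 ∈ R) (h1 : a ∈ R) (h2 : el b * a * (el b)⁻¹ ∈ R) : quat C ≤ R := by
  obtain ⟨k, hk, rfl⟩ := ha
  have hb' : b < 648 := by simp at hb; omega
  rw [C.conj hb' (quat_lt C hk)] at h2
  have hk2 : T (27 * k) (27 * k) = 81 := by
    refine C.inj _ (T_lt (quat_lt C hk) (quat_lt C hk)) _ (by norm_num) ?_
    rw [← C.mul _ (quat_lt C hk) _ (quat_lt C hk), ha2]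
  rintro _ ⟨x, hx, rfl⟩
  obtain ⟨i, hi, j, hj, o, ho, e⟩ := chk_quat_gen k hk hk2 b hb x hx
  have hlt : ∀ {n : ℕ} (y : ℕ), y < 648 → (if n = 0 then 0 else y) < 648 := fun {n} y hy => by
    split_ifs <;> omega
  have hmem : ∀ {n : ℕ} (y : ℕ), el y ∈ R → el (if n = 0 then 0 else y) ∈ R := fun {n} y hy => by
    split_ifs
    · rw [C.el_zero]; exact one_mem _
    · exact hy
  rw [← e, ← C.mul _ (T_lt (T_lt (by norm_num) (hlt _ (quat_lt C hk))) (hlt _ (cj_lt hb' (quat_lt C hk)))) _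
      (hlt _ (by norm_num)),
    ← C.mul _ (T_lt (by norm_num) (hlt _ (quat_lt C hk))) _ (hlt _ (cj_lt hb' (quat_lt C hk))),
    ← C.mul 0 (by norm_num) _ (hlt _ (quat_lt C hk)), C.el_zero, one_mul]
  exact mul_mem (mul_mem (hmem _ h1) (hmem _ h2)) (hmem _ hR)

theorem quat_sq_one {a : G} (ha : a ∈ quat C) (h : a * a = 1) : a = 1 ∨ a = el 81 := by
  obtain ⟨k, hk, rfl⟩ := ha
  have h0 : T (27 * k) (27 * k) = 0 := C.inj _ (T_lt (quat_lt C hk) (quat_lt C hk)) _ (by norm_num) (by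
    rw [← C.mul _ (quat_lt C hk) _ (quat_lt C hk), h, C.el_zero])
  rcases chk_quat_act.2.2.2.2.2.1 k hk h0 with e | e <;> rw [e]
  · exact Or.inl C.el_zero
  · exact Or.inr rfl

theorem quat_moved {a : G} (ha : a ∈ quat C) (ha2 : a * a = el 81) :
    a * (el 63 * a * (el 63)⁻¹)⁻¹ * (a * (el 63 * a * (el 63)⁻¹)⁻¹) = el 81 := by
  obtain ⟨k, hk, rfl⟩ := ha
  have hlt := quat_lt C hk
  have hk2 : T (27 * k) (27 * k) = 81 := C.inj _ (T_lt hlt hlt) _ (by norm_num) (by rw [← C.mul _ hlt _ hlt, ha2])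
  rw [C.conj (by norm_num) hlt, C.el_inv (cj_lt (by norm_num) hlt),
    C.mul _ hlt _ (chk_iv _ (cj_lt (by norm_num) hlt)).1,
    C.mul _ (T_lt hlt (chk_iv _ (cj_lt (by norm_num) hlt)).1) _ (T_lt hlt (chk_iv _ (cj_lt (by norm_num) hlt)).1),
    chk_quat_act.2.2.2.2.2.2.1 k hk hk2]

/-- An element exchanging the two pairs, the involution and the exchange. -/
theorem exists_pair (S : C.Sw s) (hO : ∀ v < 27, C.Orb v ↔ v ∈ O8) :
    ∃ n : G, n * el 81 * n⁻¹ = s ∧ n * s * n⁻¹ = el 81 ∧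
      ∀ v < 27, n * el (vi v) * n⁻¹ = el (vi (app pairMap v)) := by
  obtain ⟨c1, c2, c3, c4, -, -, c7, c8⟩ := chk_pair
  obtain ⟨n₀, hn₀⟩ := Cfg.Real.exists_act C (C.real_of_pres (O := O8) (by simp) hO (A := pairMap)
    (by norm_num [pairMap]) (by norm_num [pairMap]) (by norm_num [pairMap]) c2 (c3 O8 (by simp)))
  have hinv : ∀ v < 27, n₀⁻¹ * el (vi v) * n₀ = el (vi (app pairMap v)) := fun v hv => by
    have := hn₀ _ (app_lt pairMap v)
    rw [c1 v hv] at this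
    rw [← this]; group
  have si : s⁻¹ = s := inv_eq_of_mul_eq_one_right S.sq
  have zi : (el 81)⁻¹ = el 81 := inv_eq_of_mul_eq_one_right C.z_sq
  -- an involution acting like the exchange is conjugate to it
  have fix : ∀ x : G, x * x = 1 → (∀ v < 27, x * el (vi v) * x⁻¹ = el (vi (app zMap v))) →
      ∃ w < 27, app swMap w = w ∧ el (vi w) * el 81 * (el (vi w))⁻¹ = x := by
    intro x hx hact
    obtain ⟨v, hv, hve⟩ := C.cent_VJ (g := x * el 81) fun v hv => by
      rw [show x * el 81 * el (vi v) * (x * el 81)⁻¹ = x * (el 81 * el (vi v) * (el 81)⁻¹) * x⁻¹ by group,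
        C.conj_z hv, hact _ (app_lt _ _), c8 v hv]
    have e : el (vi v) * el 81 = x := by rw [hve, mul_assoc, C.z_sq, mul_one]
    have hsq : T (T (vi v) 81) (T (vi v) 81) = 0 := by
      refine C.inj _ (T_lt (T_lt (chk_j.1 v hv) (by norm_num)) (T_lt (chk_j.1 v hv) (by norm_num))) _
        (by norm_num) ?_
      rw [← C.mul _ (T_lt (chk_j.1 v hv) (by norm_num)) _ (T_lt (chk_j.1 v hv) (by norm_num)),
        ← C.mul _ (chk_j.1 v hv) 81 (by norm_num), e, hx, C.el_zero]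
    obtain ⟨w, hw, hw1, hw2⟩ := c7 v hv hsq
    refine ⟨w, hw, hw1, ?_⟩
    rw [C.conj (chk_j.1 w hw) (by norm_num), hw2, ← C.mul _ (chk_j.1 v hv) 81 (by norm_num), e]
  have back : ∀ (g : G), (∀ v < 27, g⁻¹ * el (vi v) * g = el (vi (app pairMap v))) →
      (∀ v < 27, g * el (vi v) * g⁻¹ = el (vi (app pairMap v))) → ∀ v < 27,
        g⁻¹ * s * g * el (vi v) * (g⁻¹ * s * g)⁻¹ = el (vi (app zMap v)) := by
    intro g hg hg' v hv
    calc g⁻¹ * s * g * el (vi v) * (g⁻¹ * s * g)⁻¹ = g⁻¹ * (s * (g * el (vi v) * g⁻¹) * s⁻¹) * g := by group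
      _ = _ := by
        rw [hg' v hv, S.act _ (app_lt _ _), ← c4 v hv, hg _ (app_lt _ _), c1 _ (app_lt _ _)]
  obtain ⟨w, hw, -, hwe⟩ := fix (n₀⁻¹ * s * n₀)
    (by rw [show n₀⁻¹ * s * n₀ * (n₀⁻¹ * s * n₀) = n₀⁻¹ * (s * s) * n₀ by group, S.sq, mul_one, inv_mul_cancel])
    (back n₀ hinv hn₀)
  set n₁ := n₀ * el (vi w) with hn₁
  have hfix : ∀ {w : ℕ}, w < 27 → ∀ v < 27, el (vi w) * el (vi v) * (el (vi w))⁻¹ = el (vi v) := fun {w} hw v hv => by
    rw [(C.VJ_comm ⟨w, hw, rfl⟩ ⟨v, hv, rfl⟩ : el (vi w) * el (vi v) = el (vi v) * el (vi w)), mul_inv_cancel_right]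
  have h1 : ∀ v < 27, n₁ * el (vi v) * n₁⁻¹ = el (vi (app pairMap v)) := fun v hv => by
    rw [hn₁, show n₀ * el (vi w) * el (vi v) * (n₀ * el (vi w))⁻¹ =
      n₀ * (el (vi w) * el (vi v) * (el (vi w))⁻¹) * n₀⁻¹ by group, hfix hw v hv, hn₀ v hv]
  have h1' : ∀ v < 27, n₁⁻¹ * el (vi v) * n₁ = el (vi (app pairMap v)) := fun v hv => by
    have := h1 _ (app_lt pairMap v)
    rw [c1 v hv] at this
    rw [← this]; group
  have hz : n₁ * el 81 * n₁⁻¹ = s := by
    rw [hn₁, show n₀ * el (vi w) * el 81 * (n₀ * el (vi w))⁻¹ =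
      n₀ * (el (vi w) * el 81 * (el (vi w))⁻¹) * n₀⁻¹ by group, hwe]
    group
  obtain ⟨u, hu, husw, hue⟩ := fix (n₁ * s * n₁⁻¹)
    (by rw [show n₁ * s * n₁⁻¹ * (n₁ * s * n₁⁻¹) = n₁ * (s * s) * n₁⁻¹ by group, S.sq, mul_one, mul_inv_cancel])
    fun v hv => by
      calc n₁ * s * n₁⁻¹ * el (vi v) * (n₁ * s * n₁⁻¹)⁻¹
          = n₁ * (s * (n₁⁻¹ * el (vi v) * n₁) * s⁻¹) * n₁⁻¹ := by group
        _ = _ := by rw [h1' v hv, S.act _ (app_lt _ _), ← c4 v hv, h1 _ (app_lt _ _), c1 _ (app_lt _ _)]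
  refine ⟨(el (vi u))⁻¹ * n₁, ?_, ?_, fun v hv => ?_⟩
  · have hus : s * el (vi u) * s⁻¹ = el (vi u) := by rw [S.act u hu, husw]
    calc (el (vi u))⁻¹ * n₁ * el 81 * ((el (vi u))⁻¹ * n₁)⁻¹
        = (el (vi u))⁻¹ * (n₁ * el 81 * n₁⁻¹) * el (vi u) := by group
      _ = (el (vi u))⁻¹ * (s * el (vi u) * s⁻¹) * s := by rw [hz]; group
      _ = s := by rw [hus]; group
  · calc (el (vi u))⁻¹ * n₁ * s * ((el (vi u))⁻¹ * n₁)⁻¹
        = (el (vi u))⁻¹ * (n₁ * s * n₁⁻¹) * el (vi u) := by group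
      _ = el 81 := by rw [← hue]; group
  · calc (el (vi u))⁻¹ * n₁ * el (vi v) * ((el (vi u))⁻¹ * n₁)⁻¹
        = (el (vi u))⁻¹ * (n₁ * el (vi v) * n₁⁻¹) * el (vi u) := by group
      _ = _ := by rw [h1 v hv, mul_assoc, C.VJ_comm ⟨_, app_lt _ _, rfl⟩ ⟨u, hu, rfl⟩]; group

/-- The norm of an element under the first factor. -/
def nrm (el : ℕ → G) (d : G) : G := d * (el 36 * d * (el 36)⁻¹) * (el 36 * el 36 * d * (el 36 * el 36)⁻¹)

variable (S : C.Sw s) (N : C.Neg s m)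

theorem emb_el : emb C S N (rep (1, 0)) = el 36 ∧ emb C S N (rep (0, 1)) = el 63 ∧
    emb C S N (rep (2, 0)) = s ∧ emb C S N (rep (1, 1))⁻¹ = el 9 ∧ emb C S N rep' = el 54 := by
  obtain ⟨a, b, c, -⟩ := emb_vals C S N
  refine ⟨a, b, c, (emb_nine C S N).1.symm, ?_⟩
  have : (rep' : GMod) = rep (1, 0) * (rep (0, 1))⁻¹ := by decide +kernel
  rw [this, map_mul, map_inv, a, b, ← C.orb_inv (by norm_num), ← C.el_vadd (by norm_num) (by decide)]
  rfl

/-- The lift of the split-off group. -/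
def lift (el : ℕ → G) (O : Subgroup (cz el ⧸ zs el)) : Subgroup G :=
  (O.comap (QuotientGroup.mk' (zs el))).map (cz el).subtype

theorem mem_lift {O : Subgroup (cz el ⧸ zs el)} {g : G} :
    g ∈ lift el O ↔ ∃ h : cz el, (h : G) = g ∧ QuotientGroup.mk' (zs el) h ∈ O := by
  constructor
  · rintro ⟨h, hh, e⟩; exact ⟨h, e, hh⟩
  · rintro ⟨h, e, hh⟩; exact ⟨h, hh, e⟩

theorem of_img {H : Subgroup G} (hz : el 81 ∈ H) {g : cz el}
    (hg : QuotientGroup.mk' (zs el) g ∈ img el H) : (g : G) ∈ H := by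
  obtain ⟨h, hh, e⟩ := mem_img hg
  rcases (mk_eq_mk C).1 e with e' | e'
  · exact e' ▸ hh
  · have : (g : G) = (h : G) * (el 81) := by rw [e', mul_assoc, C.z_sq, mul_one]
    exact this ▸ mul_mem hh hz

/-- What the block theorem gives in the centraliser of the involution. -/
structure Levi (O : Subgroup (cz el ⧸ zs el)) (U : Subgroup G) : Prop where
  comm : ∀ k < 24, ∀ l < 24, Commute (el (27 * k)) (s * el (27 * l) * s⁻¹)
  cent : ∀ u ∈ U, ∀ k ∈ q8, Commute u (el (27 * k)) ∧ Commute u (s * el (27 * k) * s⁻¹)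
  prod : ∀ g ∈ lift el O, ∃ a ∈ quat C, ∃ b ∈ quat C, ∃ u ∈ U, g = a * (s * b * s⁻¹) * u
  card : Nat.card (lift el O) = 2 * (Nat.card (img el U) * Nat.card (img el (quat C)) * Nat.card (img el (quat C)))

theorem quat_four : Nat.card (img el (quat C)) ≤ 4 := by
  classical
  have hle : quat C ≤ cz el := fun u hu => Subgroup.mem_centralizer_singleton_iff.2 (quat_comm C hu).1.eq
  have hmem : ∀ r : Fin 4, rep4 r ∈ q8 := by decide +kernel
  have key : ∀ k ∈ q8, ∃ r : Fin 4, T (27 * k) 0 = 27 * rep4 r ∨ T (27 * k) 0 = T (27 * rep4 r) 81 := by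
    decide +kernel
  let f : Fin 4 → img el (quat C) := fun r => ⟨QuotientGroup.mk' (zs el)
    ⟨el (27 * rep4 r), hle ⟨_, hmem r, rfl⟩⟩,
    _, (show el (27 * rep4 r) ∈ quat C from ⟨_, hmem r, rfl⟩), rfl⟩
  have hsurj : Function.Surjective f := by
    rintro ⟨x, hx⟩
    obtain ⟨g, hg, rfl⟩ := mem_img hx
    obtain ⟨k, hk, e⟩ := hg
    obtain ⟨r, hr⟩ := key k hk
    have hlt := quat_lt C hk
    have hm : el (T (27 * k) 0) = (g : G) := by rw [← C.mul _ hlt 0 (by norm_num), C.el_zero, mul_one, e]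
    have hq : rep4 r ∈ q8 := hmem r
    refine ⟨r, Subtype.ext ((mk_eq_mk C).2 ?_)⟩
    show el (27 * rep4 r) = (g : G) ∨ el (27 * rep4 r) = (g : G) * el 81
    rcases hr with h | h
    · left; rw [← hm, h]
    · right; rw [← hm, h, ← C.mul _ (quat_lt C hq) 81 (by norm_num), mul_assoc, C.z_sq, mul_one]
  exact (Nat.card_le_card_of_surjective f hsurj).trans (by simp)

/-- The two Levi factors commute. -/
theorem exists_levi (hO : ∀ v < 27, C.Orb v ↔ v ∈ O8)
    (hp : ∀ g, Commute g (el (vi 10)) → g ∈ Subgroup.normalizer (C.VJ : Set G)) {U : Subgroup G}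
    (hU : Core63 C S N U) (hU2 : ∀ u ∈ U, u * u = 1) (hU4 : Nat.card (img el U) ≤ 4)
    (hgap : ∀ n : G, n * el 81 * n⁻¹ = s → n * el 36 * n⁻¹ = (el 1)⁻¹ → n * el 63 * n⁻¹ = (el 63)⁻¹ →
      ∀ d ∈ U, nrm el d = 1 → n * d * n⁻¹ ∈ U → nrm el (n * d * n⁻¹) = 1 → d = 1) :
    ∃ Q O, Split (iot C S N) Q O ∧ Loc (iot C S N) Q ∧ Q (rep (0, 1)) = img el U ∧
      Q (rep (1, 1)) = img el (quat C) ∧ Levi C (s := s) O U := by
  classical
  obtain ⟨Q, O, hs, L, hcompat, hQf, hQe⟩ := exists_loc C S N hO hp hU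
  obtain ⟨vp, vf, vs, ve, ve'⟩ := emb_el C S N
  have hUcz : U ≤ cz el := fun u hu => Subgroup.mem_centralizer_singleton_iff.2 (hU.mem u hu).1.eq
  have hAcz : quat C ≤ cz el := fun u hu => Subgroup.mem_centralizer_singleton_iff.2 (quat_comm C hu).1.eq
  have si : s⁻¹ = s := inv_eq_of_mul_eq_one_right S.sq
  have zi : (el 81)⁻¹ = el 81 := inv_eq_of_mul_eq_one_right C.z_sq
  have hF : Fours (iot C S N) Q := by
    refine ⟨hcompat, fun h hh n hn => ?_, fun h hh => ?_⟩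
    · simp only [List.mem_cons, List.not_mem_nil, or_false] at hh
      rcases hh with rfl | rfl
      · rw [hQf] at hn
        obtain ⟨g, hg, rfl⟩ := mem_img hn
        rw [← map_mul, ← map_one (QuotientGroup.mk' (zs el))]
        exact congrArg _ (Subtype.ext (hU2 _ hg))
      · exact L.invol n hn
    · simp only [List.mem_cons, List.not_mem_nil, or_false] at hh
      rcases hh with rfl | rfl
      · rw [hQf]; exact hU4
      · rw [hQe]; exact quat_four C
  have hcube1 : (rep (0, 1) : GMod) * rep (0, 1) * rep (0, 1) = 1 ∧ (rep (0, 1) : GMod) ≠ 1 ∧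
      (rep (1, 1) : GMod) * rep (1, 1) * rep (1, 1) = 1 ∧ (rep (1, 1) : GMod) ≠ 1 := by decide +kernel
  have liftU : ∀ u (hu : u ∈ U), QuotientGroup.mk' (zs el) (⟨u, hUcz hu⟩ : cz el) ∈ Q (rep (0, 1)) :=
    fun u hu => hQf ▸ ⟨_, hu, rfl⟩
  have liftA : ∀ a (ha : a ∈ quat C), QuotientGroup.mk' (zs el) (⟨a, hAcz ha⟩ : cz el) ∈ Q (rep (1, 1)) :=
    fun a ha => hQe ▸ ⟨_, ha, rfl⟩
  have hOU := fun u hu => le_O L hs hF hcube1.1 hcube1.2.1 (liftU u hu)
  have hOA := fun a ha => le_O L hs hF hcube1.2.2.1 hcube1.2.2.2 (liftA a ha)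
  have f63 : ∀ u ∈ U, el 63 * u * (el 63)⁻¹ = u := fun u hu => by
    have h := (hU.mem u hu).2.eq
    rw [show vi 19 = 63 by decide +kernel] at h
    rw [← h, mul_inv_cancel_right]
  -- the core commutes with the quaternion group
  have hUA : ∀ u ∈ U, ∀ a ∈ quat C, Commute u a := by
    intro u hu
    have hex : ∀ a ∈ quat C, ∃ w, (w = 1 ∨ w = el 81) ∧ u * a = a * u * w := by
      intro a ha
      have h := central L hs hF (liftU u hu) (hOA a ha)
      rw [← map_mul, ← map_mul] at h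
      rcases (mk_eq_mk C).1 h with e | e
      · exact ⟨1, Or.inl rfl, by rw [mul_one]; exact e⟩
      · exact ⟨el 81, Or.inr rfl, e⟩
    intro a ha
    obtain ⟨a₀, ha₀, w, hw, rfl⟩ := quat_self_comm C (b := 63) (by norm_num) chk_quat_act.2.2.2.1 ha
    obtain ⟨c, hc, e⟩ := hex a₀ ha₀
    have hcz : Commute (el 63) c := by
      rcases hc with rfl | rfl
      · exact Commute.one_right _
      · exact (plane_z C (v := 19) (by decide)).symm
    have e1 : u * (el 63 * a₀ * (el 63)⁻¹) = el 63 * a₀ * (el 63)⁻¹ * u * c := by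
      calc u * (el 63 * a₀ * (el 63)⁻¹)
          = (el 63 * u * (el 63)⁻¹) * (el 63 * a₀ * (el 63)⁻¹) := by rw [f63 u hu]
        _ = el 63 * (u * a₀) * (el 63)⁻¹ := by group
        _ = el 63 * (a₀ * u) * (c * (el 63)⁻¹) := by rw [e]; group
        _ = el 63 * a₀ * (el 63)⁻¹ * (el 63 * u * (el 63)⁻¹) * c := by rw [← hcz.inv_left.eq]; group
        _ = _ := by rw [f63 u hu]
    have hcu : Commute c u := by
      rcases hc with rfl | rfl
      · exact Commute.one_left _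
      · exact (hU.mem u hu).1.symm
    refine Commute.mul_right ?_ (by
      rcases hw with rfl | rfl
      · exact Commute.one_right _
      · exact (hU.mem u hu).1)
    show u * (a₀⁻¹ * (el 63 * a₀ * (el 63)⁻¹)) = a₀⁻¹ * (el 63 * a₀ * (el 63)⁻¹) * u
    calc u * (a₀⁻¹ * (el 63 * a₀ * (el 63)⁻¹))
        = a₀⁻¹ * (a₀ * u * c) * (c⁻¹ * a₀⁻¹) * (el 63 * a₀ * (el 63)⁻¹) := by group
      _ = a₀⁻¹ * u * (a₀ * c⁻¹ * a₀⁻¹) * (el 63 * a₀ * (el 63)⁻¹) := by rw [← e]; group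
      _ = a₀⁻¹ * (c⁻¹ * (u * (el 63 * a₀ * (el 63)⁻¹))) := by
          have hca : Commute c a₀ := by
            rcases hc with rfl | rfl
            · exact Commute.one_left _
            · exact (quat_comm C ha₀).1.symm
          rw [hca.symm.inv_right.eq, mul_inv_cancel_right, mul_assoc a₀⁻¹ u, hcu.symm.inv_right.eq]
          group
      _ = _ := by
          rw [e1]
          have hcx : Commute c (el 63 * a₀ * (el 63)⁻¹) := by
            rcases hc with rfl | rfl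
            · exact Commute.one_left _
            · exact (quat_comm C (quat_conj C (by norm_num) chk_quat_act.2.2.1 ha₀)).1.symm
          rw [show el 63 * a₀ * (el 63)⁻¹ * u * c = c * (el 63 * a₀ * (el 63)⁻¹ * u) by
            rw [(hcx.mul_right hcu).eq]]
          group
  have hsU : ∀ u ∈ U, s * u * s⁻¹ ∈ U := fun u hu => hU.nor s S.z
    (mul_inv_eq_iff_eq_mul.1 (by rw [S.act 19 (by norm_num), chk_images.2.2.2.1])) u hu
  have hUB : ∀ u ∈ U, ∀ b ∈ quat C, Commute u (s * b * s⁻¹) := by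
    intro u hu b hb
    have h := (hUA _ (hsU u hu) b hb).eq
    show u * (s * b * s⁻¹) = s * b * s⁻¹ * u
    rw [si] at h ⊢
    calc u * (s * b * s) = (s * s) * u * (s * b * s) := by rw [S.sq, one_mul]
      _ = s * (s * u * s * b) * s := by group
      _ = s * b * (s * u) * (s * s) := by rw [h]; group
      _ = _ := by rw [S.sq, mul_one]; group
  have hBcz : ∀ {b}, b ∈ quat C → s * b * s⁻¹ ∈ cz el := fun hb =>
    mul_mem (mul_mem (Subgroup.mem_centralizer_singleton_iff.2 S.z) (hAcz hb))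
      (inv_mem (Subgroup.mem_centralizer_singleton_iff.2 S.z))
  have hU_comm : ∀ x ∈ U, ∀ y ∈ U, x * y = y * x := fun x hx y hy => comm_of_two hU2 hx hy
  -- images
  have hrep' : ∀ x, x ∈ Q rep' ↔ ∃ b, ∃ hb : b ∈ quat C,
      QuotientGroup.mk' (zs el) (⟨s * b * s⁻¹, hBcz hb⟩ : cz el) = x := by
    have hconj : (rep (2, 0) : GMod) * rep (1, 1) * (rep (2, 0))⁻¹ = rep'⁻¹ ∧
        (rep'⁻¹ : GMod) * rep'⁻¹ * rep'⁻¹ = 1 ∧ (rep'⁻¹ : GMod) ≠ 1 ∧
        (rep' : GMod) * rep' * rep' = 1 ∧ (rep' : GMod) ≠ 1 := by decide +kernel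
    intro x
    have hQ : Q rep' = Q (rep'⁻¹) := by
      rw [← hs.cent _ hconj.2.2.2.1 hconj.2.2.2.2, ← hs.cent _ hconj.2.1 hconj.2.2.1, map_inv]
      congr 1
      ext g
      simp only [Subgroup.mem_centralizer_singleton_iff]
      exact ⟨fun h => (show Commute g (iot C S N rep') from h).inv_right.eq,
        fun h => by simpa using (show Commute g (iot C S N rep')⁻¹ from h).inv_right.eq⟩
    rw [hQ, ← hconj.1, hcompat _ _ hcube1.2.2.1 hcube1.2.2.2, hQe]
    have himg : iot C S N (rep (2, 0)) = QuotientGroup.mk' (zs el)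
        (⟨s, Subgroup.mem_centralizer_singleton_iff.2 S.z⟩ : cz el) := congrArg _ (Subtype.ext vs)
    constructor
    · rintro ⟨y, hy, rfl⟩
      obtain ⟨g, hg, rfl⟩ := mem_img hy
      refine ⟨g, hg, ?_⟩
      show _ = iot C S N (rep (2, 0)) * QuotientGroup.mk' (zs el) g * (iot C S N (rep (2, 0)))⁻¹
      rw [himg, ← map_inv, ← map_mul, ← map_mul]
      rfl
    · rintro ⟨b, hb, rfl⟩
      refine ⟨QuotientGroup.mk' (zs el) ⟨b, hAcz hb⟩, ⟨_, hb, rfl⟩, ?_⟩
      show iot C S N (rep (2, 0)) * QuotientGroup.mk' (zs el) ⟨b, hAcz hb⟩ * (iot C S N (rep (2, 0)))⁻¹ = _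
      rw [himg, ← map_inv, ← map_mul, ← map_mul]
      rfl
  have hBO : ∀ b (hb : b ∈ quat C), QuotientGroup.mk' (zs el) (⟨s * b * s⁻¹, hBcz hb⟩ : cz el) ∈ O := fun b hb =>
    le_O L hs hF (by decide +kernel) (by decide +kernel) ((hrep' _).2 ⟨b, hb, rfl⟩)
  have hcomm : ∀ a ∈ quat C, ∀ b ∈ quat C, a * (s * b * s⁻¹) * a⁻¹ * (s * b * s⁻¹)⁻¹ ∈ U := by
    intro a ha b hb
    have h := comm_mem L hs hF (hOA a ha) (hBO b hb)
    rw [← map_inv, ← map_inv, ← map_mul, ← map_mul, ← map_mul, hQf] at h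
    exact of_img C hU.z_mem h
  have prod : ∀ g ∈ lift el O, ∃ a ∈ quat C, ∃ b ∈ quat C, ∃ u ∈ U, g = a * (s * b * s⁻¹) * u := by
    intro g hg
    obtain ⟨h, rfl, hh⟩ := (mem_lift C).1 hg
    obtain ⟨x, hx, y, hy, w, hw, e⟩ := exists_product L hs hF hh
    rw [hQe] at hx; rw [hQf] at hw
    obtain ⟨a, ha, rfl⟩ := mem_img hx
    obtain ⟨b, hb, rfl⟩ := (hrep' y).1 hy
    obtain ⟨u, hu, rfl⟩ := mem_img hw
    rw [← map_mul, ← map_mul] at e
    rcases (mk_eq_mk C).1 e with e' | e'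
    · exact ⟨a, ha, b, hb, u, hu, e'⟩
    · exact ⟨a, ha, b, hb, (u : G) * el 81, mul_mem hu hU.z_mem, by rw [e', Subgroup.coe_mul, Subgroup.coe_mul]; group⟩
  set p := el 36 with hpdef
  have p3 : p * p * p = 1 := by
    have := emb_pow_three C S N (h := rep (1, 0)) (by decide +kernel)
    rwa [vp, pow_three'] at this
  have pz : Commute p (el 81) := by have h := emb_z C S N (rep (1, 0)); rwa [vp] at h
  have pj : Commute p (el (vi 19)) := C.VJ_comm ⟨10, by norm_num, rfl⟩ ⟨19, by norm_num, rfl⟩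
  have hpU : ∀ u ∈ U, p * u * p⁻¹ ∈ U := fun u hu => hU.nor p pz pj u hu
  have hnU : ∀ u ∈ U, nrm el u ∈ U := fun u hu =>
    mul_mem (mul_mem hu (hpU u hu)) (by
      rw [show p * p * u * (p * p)⁻¹ = p * (p * u * p⁻¹) * p⁻¹ by group]; exact hpU _ (hpU u hu))
  have hfixU : ∀ u ∈ U, p * u * p⁻¹ = u → u = 1 ∨ u = el 81 := by
    intro u hu e
    have hO' := hOU u hu
    have h1 := fixed_one L hs hF hO' (show _ = _ by
      rw [show iot C S N (rep (1, 0)) = QuotientGroup.mk' (zs el)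
        (⟨p, Subgroup.mem_centralizer_singleton_iff.2 pz.eq⟩ : cz el) from congrArg _ (Subtype.ext vp),
        ← map_mul, ← map_mul]
      exact congrArg _ (Subtype.ext (mul_inv_eq_iff_eq_mul.1 e).symm))
    rw [← map_one (QuotientGroup.mk' (zs el))] at h1
    rcases (mk_eq_mk C).1 h1 with e' | e'
    · exact Or.inl e'
    · exact Or.inr (e'.trans (one_mul _))
  have nrm_mul : ∀ x ∈ U, ∀ y ∈ U, nrm el (x * y) = nrm el x * nrm el y := by
    intro x hx y hy
    have hy1 := hpU y hy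
    have hy2 : p * p * y * (p * p)⁻¹ ∈ U := by
      rw [show p * p * y * (p * p)⁻¹ = p * (p * y * p⁻¹) * p⁻¹ by group]; exact hpU _ hy1
    have hx1 := hpU x hx
    have hx2 : p * p * x * (p * p)⁻¹ ∈ U := by
      rw [show p * p * x * (p * p)⁻¹ = p * (p * x * p⁻¹) * p⁻¹ by group]; exact hpU _ hx1
    show x * y * (p * (x * y) * p⁻¹) * (p * p * (x * y) * (p * p)⁻¹) = _
    calc x * y * (p * (x * y) * p⁻¹) * (p * p * (x * y) * (p * p)⁻¹)
        = x * (y * (p * x * p⁻¹)) * (p * y * p⁻¹ * (p * p * x * (p * p)⁻¹)) * (p * p * y * (p * p)⁻¹) := by group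
      _ = x * (p * x * p⁻¹) * (y * (p * p * x * (p * p)⁻¹)) * (p * y * p⁻¹ * (p * p * y * (p * p)⁻¹)) := by
          rw [hU_comm _ hy _ hx1, hU_comm _ hy1 _ hx2]; group
      _ = _ := by rw [hU_comm _ hy _ hx2]; show _ = nrm el x * nrm el y; unfold nrm; rw [← hpdef]; group
  have hnfix : ∀ u ∈ U, nrm el u = 1 ∨ nrm el u = el 81 := by
    intro u hu
    refine hfixU _ (hnU u hu) ?_
    have hu1 := hpU u hu
    have hu2 : p * p * u * (p * p)⁻¹ ∈ U := by
      rw [show p * p * u * (p * p)⁻¹ = p * (p * u * p⁻¹) * p⁻¹ by group]; exact hpU _ hu1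
    show p * (u * (p * u * p⁻¹) * (p * p * u * (p * p)⁻¹)) * p⁻¹ = _
    calc p * (u * (p * u * p⁻¹) * (p * p * u * (p * p)⁻¹)) * p⁻¹
        = (p * u * p⁻¹ * (p * p * u * (p * p)⁻¹)) * ((p * p * p) * u * (p * p * p)⁻¹) := by group
      _ = u * (p * u * p⁻¹ * (p * p * u * (p * p)⁻¹)) := by
          rw [p3, one_mul, inv_one, mul_one, hU_comm _ (mul_mem hu1 hu2) _ hu]

      _ = _ := by unfold nrm; rw [← hpdef]; group
  have hninv : ∀ x ∈ U, ∀ y : G, (∀ u ∈ U, y * u * y⁻¹ ∈ U) → Commute y p → Commute y (el 81) →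
      nrm el (y * x * y⁻¹) = nrm el x := by
    intro x hx y hy hyp hyz
    have h : nrm el (y * x * y⁻¹) = y * nrm el x * y⁻¹ := by
      have e1 : p * y = y * p := hyp.eq.symm
      have e2 : y⁻¹ * p⁻¹ = p⁻¹ * y⁻¹ := by rw [← mul_inv_rev, ← mul_inv_rev, e1]
      unfold nrm
      rw [← hpdef, show p * (y * x * y⁻¹) * p⁻¹ = (p * y) * x * (y⁻¹ * p⁻¹) by group, e1, e2,
        show p * p * (y * x * y⁻¹) * (p * p)⁻¹ = p * ((p * y) * x * (y⁻¹ * p⁻¹)) * p⁻¹ by group, e1, e2,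
        show p * (y * p * x * (p⁻¹ * y⁻¹)) * p⁻¹ = (p * y) * (p * x * p⁻¹) * (y⁻¹ * p⁻¹) by group, e1, e2]
      group
    rw [h]
    rcases hnfix x hx with e | e <;> rw [e]
    · rw [mul_one, mul_inv_cancel]
    · rw [hyz.eq, mul_inv_cancel_right]
  -- the root element fixes the first group and moves the second
  have hce : ∀ a ∈ quat C, Commute (el 9) a := fun a ha => (quat_comm C ha).2.symm
  have e9U : ∀ u ∈ U, el 9 * u * (el 9)⁻¹ ∈ U := fun u hu => hU.nor _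
    (by have h := emb_z C S N (rep (1, 1))⁻¹; rwa [ve] at h)
    (C.VJ_comm ⟨1, by norm_num, by rw [chk_vi.2.2.1]⟩ ⟨19, by norm_num, rfl⟩) u hu
  have e9p : Commute (el 9) p := C.VJ_comm ⟨1, by norm_num, by rw [chk_vi.2.2.1]⟩ ⟨10, by norm_num, rfl⟩
  have e9z : Commute (el 9) (el 81) := by have h := emb_z C S N (rep (1, 1))⁻¹; rwa [ve] at h
  have e9B : ∀ b : G, el 9 * (s * b * s⁻¹) * (el 9)⁻¹ = s * (el 54 * b * (el 54)⁻¹) * s⁻¹ := fun b => by
    have h := S.act 18 (by norm_num)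
    rw [chk_images.2.1, chk_vi.2.2.1, chk_images.2.2.2.2.2.2.2.2.2] at h
    rw [← h]; group
  let φ : G → G → G := fun a b => a * (s * b * s⁻¹) * a⁻¹ * (s * b * s⁻¹)⁻¹
  have φdef : ∀ a b, φ a b = a * (s * b * s⁻¹) * a⁻¹ * (s * b * s⁻¹)⁻¹ := fun _ _ => rfl
  have φz : ∀ {a}, a ∈ quat C → ∀ {w}, (w = 1 ∨ w = el 81) → φ a w = 1 := by
    intro a ha w hw
    have hsw : s * w * s⁻¹ = w := by
      rcases hw with rfl | rfl
      · group
      · rw [S.z, mul_inv_cancel_right]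
    have hc : a * w = w * a := by
      rcases hw with rfl | rfl
      · simp
      · exact (quat_comm C ha).1.eq
    show a * (s * w * s⁻¹) * a⁻¹ * (s * w * s⁻¹)⁻¹ = 1
    rw [hsw, hc, mul_inv_cancel_right, mul_inv_cancel]
  have φmul : ∀ {a}, a ∈ quat C → ∀ {b b'}, b ∈ quat C → b' ∈ quat C → φ a (b * b') = φ a b * φ a b' := by
    intro a ha b b' hb hb'
    have hc : Commute (φ a b') (s * b * s⁻¹) := hUB _ (hcomm a ha b' hb') b hb
    calc φ a (b * b') = a * (s * b * s⁻¹) * a⁻¹ * (φ a b') * (s * b * s⁻¹)⁻¹ := by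
          rw [φdef a (b * b'), φdef a b']; group
      _ = a * (s * b * s⁻¹) * a⁻¹ * ((s * b * s⁻¹)⁻¹ * φ a b') := by
          rw [mul_assoc (a * (s * b * s⁻¹) * a⁻¹), hc.inv_right.eq]
      _ = _ := by simp only [φdef]; group
  have φinv : ∀ {a}, a ∈ quat C → ∀ {b}, b ∈ quat C → φ a b⁻¹ = (φ a b)⁻¹ := fun {a} ha {b} hb =>
    eq_inv_of_mul_eq_one_left (by rw [← φmul ha (inv_mem hb) hb, inv_mul_cancel]; exact φz ha (Or.inl rfl))
  have φe : ∀ {a}, a ∈ quat C → ∀ b, φ a (el 54 * b * (el 54)⁻¹) = el 9 * φ a b * (el 9)⁻¹ := by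
    intro a ha b
    have hc : el 9 * a * (el 9)⁻¹ = a := by rw [(hce a ha).eq, mul_inv_cancel_right]
    calc φ a (el 54 * b * (el 54)⁻¹)
        = (el 9 * a * (el 9)⁻¹) * (el 9 * (s * b * s⁻¹) * (el 9)⁻¹) * (el 9 * a * (el 9)⁻¹)⁻¹ *
          (el 9 * (s * b * s⁻¹) * (el 9)⁻¹)⁻¹ := by rw [hc, e9B]
      _ = _ := by simp only [φdef]; group
  have hnorm : ∀ a ∈ quat C, ∀ b ∈ quat C, nrm el (φ a b) = 1 := by
    intro a ha b hb
    obtain ⟨b₀, hb₀, w, hw, rfl⟩ := quat_self_comm C (b := 54) (by norm_num) chk_quat_act.2.2.2.2.1 hb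
    have hconj := quat_conj C (by norm_num) chk_quat_act.1 hb₀
    have hwq : w ∈ quat C := quat_z C hw
    rw [φmul ha (mul_mem (inv_mem hb₀) hconj) hwq, φz ha hw, mul_one, φmul ha (inv_mem hb₀) hconj, φinv ha hb₀,
      φe ha, nrm_mul _ (inv_mem (hcomm a ha b₀ hb₀)) _ (e9U _ (hcomm a ha b₀ hb₀)),
      hninv _ (hcomm a ha b₀ hb₀) _ e9U e9p e9z, inv_eq_of_mul_eq_one_right (hU2 _ (hcomm a ha b₀ hb₀))]
    rcases hnfix _ (hcomm a ha b₀ hb₀) with e | e <;> rw [e]
    · rw [one_mul]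
    · exact C.z_sq
  -- squares
  have hsquare : ∀ a ∈ quat C, ∀ b ∈ quat C, ∀ u ∈ U, a * a = el 81 → b * b = el 81 →
      a * (s * b * s⁻¹) * u * (a * (s * b * s⁻¹) * u) = φ a b := by
    intro a ha b hb u hu ha2 hb2
    have hc1 : Commute u (a * (s * b * s⁻¹)) := (hUA u hu a ha).mul_right (hUB u hu b hb)
    have hB2 : s * b * s⁻¹ * (s * b * s⁻¹) = el 81 := by
      rw [show s * b * s⁻¹ * (s * b * s⁻¹) = s * (b * b) * s⁻¹ by group, hb2, S.z, mul_inv_cancel_right]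
    have hc2 := hUA _ (hcomm a ha b hb) a ha
    calc a * (s * b * s⁻¹) * u * (a * (s * b * s⁻¹) * u)
        = a * (s * b * s⁻¹) * (u * (a * (s * b * s⁻¹))) * u := by group
      _ = a * (s * b * s⁻¹) * (a * (s * b * s⁻¹)) * (u * u) := by rw [hc1.eq]; group
      _ = φ a b * (s * b * s⁻¹ * (a * a)) * (s * b * s⁻¹) := by rw [hU2 u hu, mul_one]; simp only [φdef]; group
      _ = φ a b * (el 81 * ((s * b * s⁻¹) * (s * b * s⁻¹))) := by
          rw [ha2, ← (Subgroup.mem_centralizer_singleton_iff.1 (hBcz hb)).symm]; group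
      _ = φ a b := by rw [hB2, C.z_sq, mul_one]
  -- the pairing is trivial
  have hdiag : ∀ a ∈ quat C, φ a a = 1 := by
    by_contra hex
    push Not at hex
    obtain ⟨a, ha, hc1⟩ := hex
    have nondeg : ∀ a' ∈ quat C, a' * a' = el 81 → φ a' a' ≠ 1 := by
      intro a' ha' h2 h0
      have hker : ∀ b ∈ quat C, φ a' b = 1 := by
        let R : Subgroup G :=
          { carrier := {b | b ∈ quat C ∧ φ a' b = 1}
            one_mem' := ⟨one_mem _, φz ha' (Or.inl rfl)⟩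
            mul_mem' := fun ⟨h, e⟩ ⟨h', e'⟩ => ⟨mul_mem h h', by rw [φmul ha' h h', e, e', one_mul]⟩
            inv_mem' := fun ⟨h, e⟩ => ⟨inv_mem h, by rw [φinv ha' h, e, inv_one]⟩ }
        have hle : quat C ≤ R := quat_subset C ha' h2 (b := 54) (by simp) ⟨z_mem_quat C, φz ha' (Or.inr rfl)⟩
          ⟨ha', h0⟩ ⟨quat_conj C (by norm_num) chk_quat_act.1 ha', by rw [φe ha', h0, mul_one, mul_inv_cancel]⟩
        exact fun b hb => (hle hb).2
      let R' : Subgroup G :=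
        { carrier := {x | x ∈ quat C ∧ ∀ b ∈ quat C, φ x b = 1}
          one_mem' := ⟨one_mem _, fun b _ => by simp [φ]⟩
          mul_mem' := fun {x y} ⟨hx, ex⟩ ⟨hy, ey⟩ => ⟨mul_mem hx hy, fun b hb => by
            calc φ (x * y) b = x * φ y b * x⁻¹ * φ x b := by simp only [φdef]; group
              _ = 1 := by rw [ey b hb, ex b hb]; group⟩
          inv_mem' := fun {x} ⟨hx, ex⟩ => ⟨inv_mem hx, fun b hb => by
            calc φ x⁻¹ b = x⁻¹ * (φ x b)⁻¹ * x := by simp only [φdef]; group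
              _ = 1 := by rw [ex b hb]; group⟩ }
      refine hc1 ((quat_subset C ha' h2 (b := 36) (by simp) (R := R') ⟨z_mem_quat C, fun b hb => ?_⟩ ⟨ha', hker⟩
        ⟨quat_conj C (by norm_num) chk_quat_act.2.1 ha', fun b hb => ?_⟩ ha).2 a ha)
      · show el 81 * (s * b * s⁻¹) * (el 81)⁻¹ * (s * b * s⁻¹)⁻¹ = 1
        rw [← (Subgroup.mem_centralizer_singleton_iff.1 (hBcz hb)), mul_inv_cancel_right, mul_inv_cancel]
      · have sp : s * p * s⁻¹ = p⁻¹ := by
          have h := S.act 10 (by norm_num)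
          rw [chk_images.2.2.1, ← chk_images.2.2.2.2.2.2.1, C.orb_inv (by norm_num)] at h
          exact h
        have sp' : s⁻¹ * p⁻¹ * s = p := by rw [← sp]; group
        have hq : p * b * p⁻¹ ∈ quat C := quat_conj C (by norm_num) chk_quat_act.2.1 hb
        calc φ (p * a' * p⁻¹) b
            = p * (a' * (p⁻¹ * s * b * s⁻¹ * p) * a'⁻¹ * (p⁻¹ * s * b * s⁻¹ * p)⁻¹) * p⁻¹ := by simp only [φdef]; group
          _ = p * φ a' (p * b * p⁻¹) * p⁻¹ := by
              have e : p⁻¹ * s * b * s⁻¹ * p = s * (p * b * p⁻¹) * s⁻¹ := by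
                calc p⁻¹ * s * b * s⁻¹ * p = p⁻¹ * (s * b * s⁻¹) * (p⁻¹)⁻¹ := by group
                  _ = (s * p * s⁻¹) * (s * b * s⁻¹) * (s * p * s⁻¹)⁻¹ := by rw [sp]
                  _ = _ := by group
              rw [e]
          _ = 1 := by rw [hker _ hq, mul_one, mul_inv_cancel]
    have ha2 : a * a = el 81 := by
      rcases quat_sq C ha with h | h
      · exact absurd (φz ha (quat_sq_one C ha h)) hc1
      · exact h
    set c := φ a a with hc
    have hcU : c ∈ U := hcomm a ha a ha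
    have hci : c⁻¹ = c := inv_eq_of_mul_eq_one_right (hU2 c hcU)
    have hscs : s * c * s⁻¹ = c := by
      calc s * c * s⁻¹ = (s * a * s⁻¹) * ((s * s) * a * (s * s)⁻¹) * (s * a * s⁻¹)⁻¹ *
            ((s * s) * a * (s * s)⁻¹)⁻¹ := by rw [hc]; simp only [φdef]; group
        _ = c⁻¹ := by rw [S.sq, hc]; simp only [φdef]; group
        _ = c := hci
    set u := p * c * p⁻¹ with hu
    have huU : u ∈ U := hpU c hcU
    have hu2 : p * p * c * (p * p)⁻¹ ∈ U := by
      rw [show p * p * c * (p * p)⁻¹ = p * (p * c * p⁻¹) * p⁻¹ by group]; exact hpU _ huU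
    have hsus : s * u * s⁻¹ = c * u := by
      have sp : s * p * s⁻¹ = p⁻¹ := by
        have h := S.act 10 (by norm_num)
        rw [chk_images.2.2.1, ← chk_images.2.2.2.2.2.2.1, C.orb_inv (by norm_num)] at h
        exact h
      have pp : p⁻¹ = p * p := inv_eq_of_mul_eq_one_right (by rw [← mul_assoc, p3])
      have h1 : c * u * (p * p * c * (p * p)⁻¹) = 1 := hnorm a ha a ha
      calc s * u * s⁻¹ = (s * p * s⁻¹) * (s * c * s⁻¹) * (s * p * s⁻¹)⁻¹ := by rw [hu]; group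
        _ = (p * p * c * (p * p)⁻¹) := by rw [sp, hscs, pp]
        _ = (c * u)⁻¹ := eq_inv_of_mul_eq_one_right h1
        _ = c * u := inv_eq_of_mul_eq_one_right (hU2 _ (mul_mem hcU huU))
    have hba : (s * a * s⁻¹) * a = c * (a * (s * a * s⁻¹)) := by
      calc (s * a * s⁻¹) * a = c⁻¹ * (a * (s * a * s⁻¹)) := by
            rw [hc]; simp only [φdef]; group
        _ = _ := by rw [hci]
    set o := a * (s * a * s⁻¹) * u with ho
    have hos : s * o * s⁻¹ = o := by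
      calc s * o * s⁻¹ = (s * a * s⁻¹) * ((s * s) * a * (s * s)⁻¹) * (s * u * s⁻¹) := by rw [ho]; group
        _ = c * (a * (s * a * s⁻¹)) * (c * u) := by rw [S.sq, one_mul, inv_one, mul_one, hba, hsus]
        _ = a * (s * a * s⁻¹) * ((c * c) * u) := by
            rw [((hUA c hcU a ha).mul_right (hUB c hcU a ha)).eq]; group
        _ = o := by rw [hU2 c hcU, one_mul, ho]
    set t := el 63 with htdef
    have st : s * t * s⁻¹ = t := by
      have h := S.act 19 (by norm_num)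
      rwa [chk_images.2.2.2.1, show vi 19 = 63 by decide +kernel] at h
    have tz : Commute t (el 81) := (plane_z C (v := 19) (by decide)).symm
    set o₂ := o * (t * o⁻¹ * t⁻¹) with ho2
    set a' := a * (t * a * t⁻¹)⁻¹ with ha'
    have ha'q : a' ∈ quat C := mul_mem ha (inv_mem (quat_conj C (by norm_num) chk_quat_act.2.2.1 ha))
    have ha'2 : a' * a' = el 81 := quat_moved C ha ha2
    obtain ⟨w, hwU, hw⟩ : ∃ w ∈ U, o₂ = a' * (s * a' * s⁻¹) * w := by
      set b := s * a * s⁻¹ with hb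
      set b' := s * a' * s⁻¹ with hb'
      have eb : b' = b * (t * b⁻¹ * t⁻¹) := by
        calc b' = (s * a * s⁻¹) * (s * t * s⁻¹) * (s * a⁻¹ * s⁻¹) * (s * t * s⁻¹)⁻¹ := by rw [hb', ha']; group
          _ = _ := by rw [st]; simp only [hb]; group
      have ha'' : t * a⁻¹ * t⁻¹ ∈ quat C := quat_conj C (by norm_num) chk_quat_act.2.2.1 (inv_mem ha)
      have hc' := hcomm _ ha'' a' ha'q
      refine ⟨((t * a⁻¹ * t⁻¹) * b' * (t * a⁻¹ * t⁻¹)⁻¹ * b'⁻¹)⁻¹, inv_mem hc', ?_⟩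
      have h0 : o₂ = a * b' * (t * a⁻¹ * t⁻¹) := by
        rw [ho2, ho, eb, show t * (a * b * u)⁻¹ * t⁻¹ = (t * u * t⁻¹)⁻¹ * (t * b⁻¹ * t⁻¹) * (t * a⁻¹ * t⁻¹) by group,
          f63 u huU]
        group
      set x := t * a⁻¹ * t⁻¹ with hx'
      have hcx := hUA _ (inv_mem hc') x ha''
      have hcb : Commute (x * b' * x⁻¹ * b'⁻¹)⁻¹ b' := hUB _ (inv_mem hc') a' ha'q
      rw [h0, show a' = a * x by rw [hx', ha']; group]
      calc a * b' * x = a * ((x * b' * x⁻¹ * b'⁻¹)⁻¹ * (x * b')) := by group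
        _ = _ := by rw [(hcx.mul_right hcb).eq]; simp only [hb']; group
    have ho2sq : o₂ * o₂ = φ a' a' := by rw [hw]; exact hsquare a' ha'q a' ha'q w hwU ha'2 ha'2
    -- membership of the exchanged element
    obtain ⟨n, hnz, hns, hnv⟩ := exists_pair C S hO
    have hn63 : n * t * n⁻¹ = t⁻¹ := by
      have h := hnv 19 (by norm_num)
      rwa [chk_pair.2.2.2.2.1, C.orb_inv (by norm_num), show vi 19 = 63 by decide +kernel] at h
    have hn36 : n * el 36 * n⁻¹ = (el 1)⁻¹ := by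
      have h := hnv 10 (by norm_num)
      rw [chk_pair.2.2.2.2.2.1, show (6 : ℕ) = vneg 3 by decide +kernel, C.orb_inv (by norm_num)] at h
      exact h
    have hoz : Commute o (el 81) := ((quat_comm C ha).1.mul_left
      (Subgroup.mem_centralizer_singleton_iff.1 (hBcz ha))).mul_left (hU.mem u huU).1
    have ho2z : Commute o₂ (el 81) := hoz.mul_left ((tz.mul_left hoz.inv_left).mul_left tz.inv_left)
    have ho2s : s * o₂ * s⁻¹ = o₂ := by
      calc s * o₂ * s⁻¹ = (s * o * s⁻¹) * ((s * t * s⁻¹) * (s * o * s⁻¹)⁻¹ * (s * t * s⁻¹)⁻¹) := by rw [ho2]; group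
        _ = _ := by rw [hos, st, ho2]
    have conj_z' : ∀ x, Commute x s → Commute (n * x * n⁻¹) (el 81) := fun x hx => by
      rw [← hns]; exact (Commute.conj_iff n).2 hx
    have hog : n * o * n⁻¹ ∈ cz el :=
      Subgroup.mem_centralizer_singleton_iff.2 (conj_z' o (mul_inv_eq_iff_eq_mul.1 hos).symm).eq
    set q := n * o₂ * n⁻¹ with hqdef
    have hqz : q ∈ cz el :=
      Subgroup.mem_centralizer_singleton_iff.2 (conj_z' o₂ (mul_inv_eq_iff_eq_mul.1 ho2s).symm).eq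
    have hq4 : q * q * (q * q) = 1 := by
      rw [hqdef, show n * o₂ * n⁻¹ * (n * o₂ * n⁻¹) * (n * o₂ * n⁻¹ * (n * o₂ * n⁻¹)) =
        n * (o₂ * o₂ * (o₂ * o₂)) * n⁻¹ by group, ho2sq, hU2 _ (hcomm a' ha'q a' ha'q), mul_one, mul_inv_cancel]
    have hqO : QuotientGroup.mk' (zs el) (⟨q, hqz⟩ : cz el) ∈ O := by
      haveI := hs.normal
      obtain ⟨o', ho', h₀, e₀⟩ := hs.prod (QuotientGroup.mk' (zs el) (⟨_, hog⟩ : cz el))
      have et : QuotientGroup.mk' (zs el)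
          (⟨t, Subgroup.mem_centralizer_singleton_iff.2 tz.eq⟩ : cz el) = iot C S N (rep (0, 1)) :=
        congrArg _ (Subtype.ext vf.symm)
      set π := QuotientGroup.mk' O with hπ
      set z₀ := iot C S N (h₀ * (rep (0, 1))⁻¹ * h₀⁻¹ * rep (0, 1)) with hz₀
      have e1 : π (QuotientGroup.mk' (zs el) (⟨q, hqz⟩ : cz el)) = π z₀ := by
        have eq : (⟨q, hqz⟩ : cz el) = ⟨_, hog⟩ * (⟨t, Subgroup.mem_centralizer_singleton_iff.2 tz.eq⟩ : cz el)⁻¹ *
            (⟨_, hog⟩ : cz el)⁻¹ * ⟨t, Subgroup.mem_centralizer_singleton_iff.2 tz.eq⟩ := by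
          refine Subtype.ext ?_
          show q = n * o * n⁻¹ * t⁻¹ * (n * o * n⁻¹)⁻¹ * t
          have hti : n * t⁻¹ * n⁻¹ = t := by rw [← conj_inv, hn63, inv_inv]
          rw [hqdef, ho2, show n * (o * (t * o⁻¹ * t⁻¹)) * n⁻¹ =
            (n * o * n⁻¹) * (n * t * n⁻¹) * (n * o * n⁻¹)⁻¹ * (n * t⁻¹ * n⁻¹) by group, hn63, hti]
        rw [eq, hz₀]
        simp only [map_mul, map_inv, et, e₀, show π o' = 1 from (QuotientGroup.eq_one_iff o').2 ho', one_mul]
      have hcube : ∀ h : GMod, (h * (rep (0, 1))⁻¹ * h⁻¹ * rep (0, 1)) * (h * (rep (0, 1))⁻¹ * h⁻¹ * rep (0, 1)) *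
          (h * (rep (0, 1))⁻¹ * h⁻¹ * rep (0, 1)) = 1 := by decide +kernel
      have h1 : orderOf (π z₀) ∣ 3 := (orderOf_map_dvd _ _).trans ((orderOf_map_dvd _ _).trans
        (orderOf_dvd_of_pow_eq_one (by rw [pow_three']; exact hcube h₀)))
      have h2 : orderOf (π z₀) ∣ 4 := by
        rw [← e1]
        refine (orderOf_map_dvd _ _).trans ((orderOf_map_dvd _ _).trans (orderOf_dvd_of_pow_eq_one (Subtype.ext ?_)))
        rw [Subgroup.coe_pow, show (4 : ℕ) = 2 + 2 from rfl, pow_add, pow_two]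
        exact hq4
      rw [← QuotientGroup.eq_one_iff]
      show π _ = 1
      rw [e1]
      exact orderOf_eq_one_iff.1 (Nat.eq_one_of_dvd_coprimes (by norm_num) h2 h1)
    obtain ⟨x, hx, y, hy, v, hv, hqe⟩ := prod q ((mem_lift C).2 ⟨⟨q, hqz⟩, rfl, hqO⟩)
    have hqq : q * q = 1 ∨ q * q = el 81 ∨ (q * q ∈ U ∧ nrm el (q * q) = 1) := by
      have triv : ∀ w b : G, (w = 1 ∨ w = el 81) → b ∈ quat C → ∀ r, Commute r (el 81) →
          (r * r = 1 ∨ r * r = el 81) → Commute v r → v * v = 1 →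
          (w * r * v * (w * r * v) = 1 ∨ w * r * v * (w * r * v) = el 81) := by
        intro w b hw _ r hrz hr2 hvr hv2
        have hwr : Commute w r := by
          rcases hw with rfl | rfl
          exacts [Commute.one_left _, hrz.symm]
        have hwv : Commute w v := by
          rcases hw with rfl | rfl
          exacts [Commute.one_left _, (hU.mem v hv).1.symm]
        have hw2 : w * w = 1 := by
          rcases hw with rfl | rfl
          exacts [one_mul _, C.z_sq]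
        have e : w * r * v * (w * r * v) = r * r := by
          calc w * r * v * (w * r * v) = (w * r * v) ^ 2 := (pow_two _).symm
            _ = w ^ 2 * r ^ 2 * v ^ 2 := by
                rw [(hwv.mul_left hvr.symm).mul_pow, hwr.mul_pow]
            _ = _ := by rw [pow_two, pow_two, pow_two, hw2, hv2, one_mul, mul_one]
        rw [e]; exact hr2
      rcases quat_sq C hx with hx2 | hx2
      · have hB : s * y * s⁻¹ * (s * y * s⁻¹) = 1 ∨ s * y * s⁻¹ * (s * y * s⁻¹) = el 81 := by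
          rw [show s * y * s⁻¹ * (s * y * s⁻¹) = s * (y * y) * s⁻¹ by group]
          rcases quat_sq C hy with h | h <;> rw [h]
          · left; group
          · right; rw [S.z, mul_inv_cancel_right]
        rw [hqe]
        exact (triv x y (quat_sq_one C hx hx2) hy _ (Subgroup.mem_centralizer_singleton_iff.1 (hBcz hy)) hB
          (hUB v hv y hy) (hU2 v hv)).imp_right Or.inl
      rcases quat_sq C hy with hy2 | hy2
      · have hyB : s * y * s⁻¹ = y := by
          rcases quat_sq_one C hy hy2 with rfl | rfl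
          · group
          · rw [S.z, mul_inv_cancel_right]
        have hxy : x * y = y * x := by
          rcases quat_sq_one C hy hy2 with rfl | rfl
          · simp
          · exact (quat_comm C hx).1.eq
        rw [hqe, hyB, hxy]
        exact (triv y x (quat_sq_one C hy hy2) hx x (quat_comm C hx).1 (Or.inr hx2)
          (hUA v hv x hx) (hU2 v hv)).imp_right Or.inl
      right; right
      rw [hqe, hsquare x hx y hy v hv hx2 hy2]
      exact ⟨hcomm x hx y hy, hnorm x hx y hy⟩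
    have hc2 : φ a' a' ≠ 1 := nondeg a' ha'q ha'2
    have hnq : n * (φ a' a') * n⁻¹ = q * q := by rw [← ho2sq, hqdef]; group
    rcases hqq with h | h | ⟨h, h'⟩
    · rw [h] at hnq; exact hc2 (conj_eq_one_iff.1 hnq)
    · -- the exchange is not in the core
      have hsU' : s ∈ U := by
        have e : φ a' a' = s := by
          rw [h, ← hns] at hnq
          exact mul_left_cancel (mul_right_cancel hnq)
        rw [← e]; exact hcomm a' ha'q a' ha'q
      have h2 := hOU s hsU'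
      rw [show (⟨s, hUcz hsU'⟩ : cz el) = embC C S N (rep (2, 0)) from Subtype.ext vs.symm] at h2
      exact absurd (hs.meet _ h2) (by decide +kernel)
    · exact hc2 (hgap n hnz hn36 hn63 _ (hcomm a' ha'q a' ha'q) (hnorm a' ha'q a' ha'q) (hnq ▸ h) (hnq ▸ h'))
  have hAB : ∀ a ∈ quat C, ∀ b ∈ quat C, Commute a (s * b * s⁻¹) := by
    intro a ha b hb
    rcases quat_sq C ha with h2 | h2
    · rcases quat_sq_one C ha h2 with rfl | rfl
      · exact Commute.one_left _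
      · exact (Subgroup.mem_centralizer_singleton_iff.1 (hBcz hb) : _ = _).symm
    let R : Subgroup G :=
      { carrier := {b | b ∈ quat C ∧ φ a b = 1}
        one_mem' := ⟨one_mem _, φz ha (Or.inl rfl)⟩
        mul_mem' := fun ⟨h, e⟩ ⟨h', e'⟩ => ⟨mul_mem h h', by rw [φmul ha h h', e, e', one_mul]⟩
        inv_mem' := fun ⟨h, e⟩ => ⟨inv_mem h, by rw [φinv ha h, e, inv_one]⟩ }
    have hle : quat C ≤ R := quat_subset C ha h2 (b := 54) (by simp) ⟨z_mem_quat C, φz ha (Or.inr rfl)⟩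
      ⟨ha, hdiag a ha⟩ ⟨quat_conj C (by norm_num) chk_quat_act.1 ha, by rw [φe ha, hdiag a ha, mul_one, mul_inv_cancel]⟩
    exact mul_inv_eq_iff_eq_mul.1 (mul_inv_eq_one.1 (hle hb).2)
  refine ⟨Q, O, hs, L, hQf, hQe, ⟨fun k hk l hl => ?_, fun u hu k hk => ⟨hUA u hu _ ⟨k, hk, rfl⟩, hUB u hu _ ⟨k, hk, rfl⟩⟩,
    prod, ?_⟩⟩
  · obtain ⟨q, hq, j, hj, e⟩ := chk_quat_act.2.2.2.2.2.2.2 k hk
    obtain ⟨q', hq', j', hj', e'⟩ := chk_quat_act.2.2.2.2.2.2.2 l hl
    have h54 : el (vi (vsm j 18)) = el 54 ^ j ∧ el (vi (vsm j' 18)) = el 54 ^ j' := by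
      rw [C.el_vsm hj (by norm_num), C.el_vsm hj' (by norm_num), chk_images.2.2.2.2.2.2.2.2.2]; exact ⟨rfl, rfl⟩
    rw [← e, ← e', ← C.mul _ (quat_lt C hq) _ (chk_j.1 _ (C.vsm_lt (by norm_num))),
      ← C.mul _ (quat_lt C hq') _ (chk_j.1 _ (C.vsm_lt (by norm_num))), h54.1, h54.2]
    have hs54 : s * el 54 * s⁻¹ = el 9 := by
      have h := S.act 18 (by norm_num)
      rwa [chk_images.2.1, chk_vi.2.2.1, chk_images.2.2.2.2.2.2.2.2.2] at h
    rw [show s * (el (27 * q') * el 54 ^ j') * s⁻¹ = (s * el (27 * q') * s⁻¹) * (s * el 54 * s⁻¹) ^ j' by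
      rw [conj_pow]; group, hs54]
    have h59 : Commute (el 54) (el 9) := C.VJ_comm ⟨18, by norm_num, by rw [chk_images.2.2.2.2.2.2.2.2.2]⟩
      ⟨1, by norm_num, by rw [chk_vi.2.2.1]⟩
    have hm := hAB _ ⟨q, hq, rfl⟩ _ ⟨q', hq', rfl⟩
    have h5 : Commute (el 54) (s * el (27 * q') * s⁻¹) := by
      have h := hce _ (show el (27 * q') ∈ quat C from ⟨q', hq', rfl⟩)
      have hs9 : s * el 9 * s⁻¹ = el 54 := by
        have h := S.act 1 (by norm_num)
        rwa [chk_images.1, chk_vi.2.2.1, chk_images.2.2.2.2.2.2.2.2.2] at h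
      rw [← hs9]
      exact (Commute.conj_iff s).2 h
    exact (hm.mul_right ((hce _ ⟨q, hq, rfl⟩).symm.pow_right j')).mul_left
      ((h5.pow_left j).mul_right (h59.pow_pow j j'))
  · have hz2 : Nat.card (zs el) = 2 := by
      rw [Nat.card_congr (Subgroup.subgroupOfEquivOfLe (Subgroup.zpowers_le.2
        (Subgroup.mem_centralizer_singleton_iff.2 rfl) : Subgroup.zpowers (el 81) ≤ cz el)).toEquiv, Nat.card_zpowers]
      exact orderOf_eq_prime (by rw [pow_two, C.z_sq]) (z_ne_one C)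
    rw [lift, Subgroup.card_map_of_injective (cz el).subtype_injective, ← hz2, ← hQf, ← hQe]
    have h1 := card_O L hs hF
    have h2 : Nat.card (Q rep') = Nat.card (Q (rep (1, 1))) := by
      rw [← rep_facts.1, hcompat _ _ hcube1.2.2.1 hcube1.2.2.2,
        Subgroup.card_map_of_injective (MulAut.conj _).injective]
    rw [h2] at h1
    set H := O.comap (QuotientGroup.mk' (zs el)) with hH
    have hN : zs el ≤ H := by
      intro x hx
      show QuotientGroup.mk' (zs el) x ∈ O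
      rw [show QuotientGroup.mk' (zs el) x = 1 from (QuotientGroup.eq_one_iff x).2 hx]; exact one_mem _
    have h3 := Subgroup.card_eq_card_quotient_mul_card_subgroup ((zs el).subgroupOf H)
    have h4 := Subgroup.card_mul_index O
    have h5 : H.index = O.index := Subgroup.index_comap_of_surjective O (QuotientGroup.mk'_surjective _)
    have h6 := Subgroup.card_mul_index H
    have h7 : Nat.card (cz el) = Nat.card (cz el ⧸ zs el) * Nat.card (zs el) :=
      Subgroup.card_eq_card_quotient_mul_card_subgroup _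
    rw [h5, h7, ← h4] at h6
    have := Nat.eq_of_mul_eq_mul_right (Nat.pos_of_ne_zero Subgroup.index_ne_zero_of_finite)
      (h6.trans (by ring : Nat.card O * O.index * Nat.card (zs el) = Nat.card O * Nat.card (zs el) * O.index))
    rw [this, h1]; ring

end Cfsg.Agent.S3342CentZ
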