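import Cfsg.Agent.Lib.Hayden.Local
import Cfsg.Agent.Lib.Hayden.Swap
import Cfsg.Agent.Lib.ThreeTI.Grid.Model
import Mathlib.GroupTheory.NoncommCoprod

/-!
The model `S₃ × S₃` inside the centraliser of the central involution of the Levi factor.
-/

set_option autoImplicit false
set_option maxRecDepth 20000
set_option synthInstance.maxSize 10000
set_option linter.style.haveILetI false
set_option linter.unusedSectionVars false

namespace Cfsg.Agent.S3342CentZ

open Cfsg.Agent.Hayden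
open Cfsg.Agent.ThreeTI.Grid (rep)

abbrev GMod : Type := Cfsg.Agent.ThreeTI.Grid.Mod

section Dih

variable {G : Type*} [Group G] (r s : G)

/-- The homomorphism given by a rotation and a reflection. -/
def dih (hr : r ^ 3 = 1) (hs : s * s = 1) (hsr : s * r * s⁻¹ = r⁻¹) : DihedralGroup 3 →* G where
  toFun
    | .r i => r ^ i.val
    | .sr i => s * r ^ i.val
  map_one' := by
    show r ^ (0 : ZMod 3).val = 1
    rw [ZMod.val_zero, pow_zero]
  map_mul' a b := by
    have hadd : ∀ i j : ZMod 3, r ^ (i + j).val = r ^ i.val * r ^ j.val := fun i j => by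
      rw [← pow_add, ZMod.val_add, ← pow_eq_pow_mod _ hr]
    have hsub : ∀ i j : ZMod 3, r ^ (j - i).val = (r ^ i.val)⁻¹ * r ^ j.val := fun i j => by
      have h := hadd i (j - i)
      rw [add_sub_cancel] at h
      rw [h, inv_mul_cancel_left]
    have hc : ∀ n : ℕ, r ^ n * s = s * (r ^ n)⁻¹ := fun n => by
      have h : s * r ^ n * s⁻¹ = (r ^ n)⁻¹ := by rw [← conj_pow, hsr, inv_pow]
      have si : s⁻¹ = s := inv_eq_of_mul_eq_one_right hs
      rw [si] at h
      calc r ^ n * s = (s * s) * (r ^ n * s) := by rw [hs, one_mul]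
        _ = s * (s * r ^ n * s) := by group
        _ = s * (r ^ n)⁻¹ := by rw [h]
    rcases a with i | i <;> rcases b with j | j
    · exact hadd i j
    · show s * r ^ (j - i).val = r ^ i.val * (s * r ^ j.val)
      rw [hsub, ← mul_assoc, ← mul_assoc, hc]
    · show s * r ^ (i + j).val = s * r ^ i.val * r ^ j.val
      rw [hadd, mul_assoc]
    · show r ^ (j - i).val = s * r ^ i.val * (s * r ^ j.val)
      rw [hsub, show s * r ^ i.val * (s * r ^ j.val) = s * (r ^ i.val * s) * r ^ j.val by group, hc,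
        ← mul_assoc s s, hs, one_mul]

variable (hr : r ^ 3 = 1) (hs : s * s = 1) (hsr : s * r * s⁻¹ = r⁻¹)

theorem dih_r (i : ZMod 3) : dih r s hr hs hsr (.r i) = r ^ i.val := rfl

theorem dih_sr (i : ZMod 3) : dih r s hr hs hsr (.sr i) = s * r ^ i.val := rfl

theorem dih_comm {x : G} (h1 : Commute r x) (h2 : Commute s x) (a : DihedralGroup 3) :
    Commute (dih r s hr hs hsr a) x := by
  rcases a with i | i
  · exact h1.pow_left _
  · exact h2.mul_left (h1.pow_left _)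

end Dih

/-- The points of the plane. -/
def plane : List ℕ := [0, 1, 2, 9, 10, 11, 18, 19, 20]

/-- The coordinates of a point in the plane. -/
def pt (i j : ℕ) : ℕ := vadd (vsm i 10) (vsm j 19)

/-- The index of a point of the model. -/
def cubeVal : DihedralGroup 3 → ℕ
  | .r i => i.val
  | .sr i => i.val

theorem chk_pt : vi 10 = 36 ∧ vi 19 = 63 ∧ (∀ i < 3, ∀ j < 3, pt i j ∈ plane ∧ (pt i j = 0 → i = 0 ∧ j = 0)) ∧
    (∀ v ∈ plane, v < 27 ∧ app zMap v = v ∧ ∃ i < 3, ∃ j < 3, pt i j = v) := by decide +kernel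

theorem chk_plane_z : ∀ v < 27, cj 81 (vi v) = vi v → v ∈ plane := by decide +kernel

/-- The maps fixing the centre, as the model sees them. -/
def Ok (A : ℕ × ℕ × ℕ) : Bool :=
  [(1, 18), (18, 1), (2, 9), (9, 2)].contains (app A 1, app A 18)

theorem chk_cases : ∀ a ∈ O8, ∀ q < 27, ∀ r < 27, pres (a, q, r) O8 = true → sing (a, q, r) = false →
    (∀ v < 27, app (a, q, r) (app zMap v) = app zMap (app (a, q, r) v)) → Ok (a, q, r) = true := by
  decide +kernel

theorem chk_images : app swMap 1 = 18 ∧ app swMap 18 = 1 ∧ app swMap 10 = 20 ∧ app swMap 19 = 19 ∧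
    vneg 1 = 2 ∧ vneg 18 = 9 ∧ vneg 10 = 20 ∧ vneg 20 = 10 ∧ vneg 19 = 11 ∧ vi 18 = 54 := by decide +kernel

theorem chk_pair_cent : ∀ i < 648, T i 54 = T 54 i →
    (∃ v < 27, vi v = i) ∨ (∃ v < 27, T (vi v) 81 = i) := by decide +kernel

theorem chk_pair_z : ∀ v < 27, (cj (vi v) 81 = 81 → v ∈ plane) ∧
    (T (T (T (vi v) 81) (T (vi v) 81)) (T (vi v) 81) = 0 → False) := by decide +kernel

theorem model_cube : ∀ h : GMod, (∀ t : GMod, t * t * t = 1 → h * t * h⁻¹ * t⁻¹ = 1) → h * h * h = 1 := by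
  decide +kernel

theorem model_conj : ∀ h t : GMod, t * t * t = 1 →
    h * t * h⁻¹ * t⁻¹ * (h * t * h⁻¹ * t⁻¹) * (h * t * h⁻¹ * t⁻¹) = 1 := by decide +kernel

variable {G : Type*} [Group G] [Finite G] {el : ℕ → G} {s m : G}

/-- The embedding of the model. -/
def emb (C : Cfg el) (S : C.Sw s) (N : C.Neg s m) : GMod →* G :=
  have hp : ∀ {v : ℕ}, v < 27 → el (vi v) ^ 3 = 1 := fun hv => C.VJ_cube ⟨_, hv, rfl⟩
  MonoidHom.noncommCoprod
    (dih (el (vi 10)) s (hp (by norm_num)) S.sq (by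
      rw [S.act 10 (by norm_num), chk_images.2.2.1, ← chk_images.2.2.2.2.2.2.1, C.orb_inv (by norm_num)]))
    (dih (el (vi 19)) (m * s) (hp (by norm_num))
      (by rw [show m * s * (m * s) = m * (s * m) * s by group, ← N.comm, show m * (m * s) * s = m * m * (s * s) by group,
        N.sq, S.sq, one_mul]) (by
      rw [show m * s * el (vi 19) * (m * s)⁻¹ = m * (s * el (vi 19) * s⁻¹) * m⁻¹ by group,
        S.act 19 (by norm_num), chk_images.2.2.2.1, N.act 19 (by norm_num)]))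
    (fun a b => by
      refine dih_comm _ _ _ _ _ ?_ ?_ a <;> refine (dih_comm _ _ _ _ _ ?_ ?_ b).symm
      · exact C.VJ_comm ⟨19, by norm_num, rfl⟩ ⟨10, by norm_num, rfl⟩
      · show m * s * el (vi 10) = el (vi 10) * (m * s)
        rw [← mul_inv_eq_iff_eq_mul,
          show m * s * el (vi 10) * (m * s)⁻¹ = m * (s * el (vi 10) * s⁻¹) * m⁻¹ by group,
          S.act 10 (by norm_num), chk_images.2.2.1, N.act 20 (by norm_num), ← C.orb_inv (by norm_num),
          chk_images.2.2.2.2.2.2.2.1]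
      · show el (vi 19) * s = s * el (vi 19)
        refine (mul_inv_eq_iff_eq_mul.1 ?_).symm
        rw [S.act 19 (by norm_num), chk_images.2.2.2.1]
      · show m * s * s = s * (m * s)
        rw [← mul_assoc s, ← N.comm])

variable (C : Cfg el) (S : C.Sw s) (N : C.Neg s m)
include C

theorem emb_mk (a b : DihedralGroup 3) : emb C S N (a, b) = emb C S N (a, 1) * emb C S N (1, b) := by
  rw [← map_mul]; simp

theorem emb_vals : emb C S N (rep (1, 0)) = el (vi 10) ∧ emb C S N (rep (0, 1)) = el (vi 19) ∧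
    emb C S N (rep (2, 0)) = s ∧ emb C S N (rep (0, 2)) = m * s := by
  have v1 : (1 : ZMod 3).val = 1 := rfl
  have v0 : (0 : ZMod 3).val = 0 := rfl
  refine ⟨?_, ?_, ?_, ?_⟩ <;>
    simp [emb, rep, Cfsg.Agent.ThreeTI.Grid.rep3, MonoidHom.noncommCoprod_apply, dih_r, dih_sr, v1, v0]

theorem emb_cube {h : GMod} (hh : h * h * h = 1) :
    ∃ i < 3, ∃ j < 3, emb C S N h = el (vi (pt i j)) ∧ (i = 0 → j = 0 → h = 1) := by
  have key : ∀ h : GMod, h * h * h = 1 → ∃ i : Fin 3, ∃ j : Fin 3,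
      h = rep (1, 0) ^ (i : ℕ) * rep (0, 1) ^ (j : ℕ) := by decide +kernel
  obtain ⟨i, j, rfl⟩ := key h hh
  refine ⟨i, i.2, j, j.2, ?_, fun hi hj => by rw [hi, hj, pow_zero, pow_zero, one_mul]⟩
  rw [map_mul, map_pow, map_pow, (emb_vals C S N).1, (emb_vals C S N).2.1, pt,
    C.el_vadd (C.vsm_lt (by norm_num)) (C.vsm_lt (by norm_num)), C.el_vsm i.2 (by norm_num),
    C.el_vsm j.2 (by norm_num)]

theorem emb_plane {v : ℕ} (hv : v ∈ plane) : ∃ h : GMod, h * h * h = 1 ∧ emb C S N h = el (vi v) := by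
  obtain ⟨i, hi, j, hj, rfl⟩ := (chk_pt.2.2.2 v hv).2.2
  refine ⟨rep (1, 0) ^ i * rep (0, 1) ^ j, ?_, ?_⟩
  · exact (show ∀ i : Fin 3, ∀ j : Fin 3, rep (1, 0) ^ (i : ℕ) * rep (0, 1) ^ (j : ℕ) *
      (rep (1, 0) ^ (i : ℕ) * rep (0, 1) ^ (j : ℕ)) * (rep (1, 0) ^ (i : ℕ) * rep (0, 1) ^ (j : ℕ)) = 1 by
        decide +kernel) ⟨i, hi⟩ ⟨j, hj⟩
  · rw [map_mul, map_pow, map_pow, (emb_vals C S N).1, (emb_vals C S N).2.1, pt,
      C.el_vadd (C.vsm_lt (by norm_num)) (C.vsm_lt (by norm_num)), C.el_vsm hi (by norm_num),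
      C.el_vsm hj (by norm_num)]

theorem plane_z {v : ℕ} (hv : v ∈ plane) : Commute (el 81) (el (vi v)) := by
  have hlt := (chk_pt.2.2.2 v hv).1
  refine mul_inv_eq_iff_eq_mul.1 ?_
  rw [C.conj_z hlt, (chk_pt.2.2.2 v hv).2.1]

theorem emb_z (h : GMod) : Commute (emb C S N h) (el 81) := by
  have hp : Commute (el (vi 10)) (el 81) := (plane_z C (by decide)).symm
  have hf : Commute (el (vi 19)) (el 81) := (plane_z C (by decide)).symm
  have hs : Commute s (el 81) := S.z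
  have hm : Commute m (el 81) := N.z
  obtain ⟨a, b⟩ := h
  rw [emb, MonoidHom.noncommCoprod_apply]
  exact (dih_comm _ _ _ _ _ hp hs a).mul_left (dih_comm _ _ _ _ _ hf (hm.mul_left hs) b)

theorem z_ne_one : el 81 ≠ 1 := fun h => by
  have := C.inj 81 (by norm_num) 0 (by norm_num) (h.trans C.el_zero.symm)
  norm_num at this

theorem z_not_three {g : G} (hg : g ^ 3 = 1) (hz : g = el 81 ∨ g = 1) : g = 1 := by
  rcases hz with rfl | rfl
  · exfalso
    rw [pow_three, C.z_sq, mul_one] at hg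
    exact z_ne_one C hg
  · rfl

theorem emb_cube_inj {h : GMod} (hh : h * h * h = 1) (h1 : emb C S N h = el 81 ∨ emb C S N h = 1) : h = 1 := by
  obtain ⟨i, hi, j, hj, e, h0⟩ := emb_cube C S N hh
  have e1 := z_not_three C (by rw [← map_pow, pow_three', hh, map_one]) h1
  rw [e, ← C.el_zero] at e1
  obtain ⟨rfl, rfl⟩ := (chk_pt.2.2.1 i hi j hj).2 (C.vi_inj (vadd_lt _ _) (by norm_num)
    (e1.trans (by rw [chk_vi.2.1])))
  exact h0 rfl rfl

/-- The embedding avoids the central involution. -/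
theorem emb_eq_one {h : GMod} (h1 : emb C S N h = el 81 ∨ emb C S N h = 1) : h = 1 := by
  refine emb_cube_inj C S N (model_cube h fun t ht => ?_) h1
  refine emb_cube_inj C S N (model_conj h t ht) (Or.inr ?_)
  rw [map_mul, map_mul, map_mul, map_inv, map_inv]
  have hc : Commute (emb C S N h) (emb C S N t) := by
    rcases h1 with e | e
    · rw [e]; exact (emb_z C S N t).symm
    · rw [e]; exact Commute.one_left _
  rw [hc.eq]; group

/-- The centraliser of the plane. -/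
theorem cent_plane {g : G} (h1 : Commute g (el (vi 1))) (h18 : Commute g (el (vi 18))) :
    ∃ v < 27, g = el (vi v) ∨ g = el (vi v) * el 81 := by
  rw [show vi 1 = 9 from chk_vi.2.2.1] at h1
  rw [chk_images.2.2.2.2.2.2.2.2.2] at h18
  obtain ⟨i, hi, rfl⟩ := (C.mem g).1 h1
  rcases chk_pair_cent i hi ((C.comm_iff hi (by norm_num)).1 h18) with ⟨v, hv, rfl⟩ | ⟨v, hv, rfl⟩
  · exact ⟨v, hv, Or.inl rfl⟩
  · exact ⟨v, hv, Or.inr (C.mul _ (chk_j.1 v hv) 81 (by norm_num)).symm⟩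

/-- The normaliser of the plane normalises the abelian subgroup. -/
theorem norm_of_plane {g : G} (h1 : ∃ v ∈ plane, g * el (vi 1) * g⁻¹ = el (vi v))
    (h18 : ∃ v ∈ plane, g * el (vi 18) * g⁻¹ = el (vi v))
    (i1 : ∃ v ∈ plane, g⁻¹ * el (vi 1) * g = el (vi v))
    (i18 : ∃ v ∈ plane, g⁻¹ * el (vi 18) * g = el (vi v)) : g ∈ Subgroup.normalizer (C.VJ : Set G) := by
  refine C.mem_norm fun u hu => ?_
  have hcent : ∀ w, w = 1 ∨ w = 18 → Commute (g * el (vi u) * g⁻¹) (el (vi w)) := by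
    intro w hw
    obtain ⟨x, hx, hxe⟩ : ∃ x ∈ plane, g⁻¹ * el (vi w) * g = el (vi x) := by
      rcases hw with rfl | rfl
      exacts [i1, i18]
    have hc := C.VJ_comm ⟨u, hu, rfl⟩ ⟨x, (chk_pt.2.2.2 x hx).1, rfl⟩
    rw [← hxe] at hc
    calc g * el (vi u) * g⁻¹ * el (vi w) = g * (el (vi u) * (g⁻¹ * el (vi w) * g)) * g⁻¹ := by group
      _ = g * (g⁻¹ * el (vi w) * g * el (vi u)) * g⁻¹ := by rw [hc]
      _ = _ := by group
  obtain ⟨v, hv, e | e⟩ := cent_plane C (hcent 1 (Or.inl rfl)) (hcent 18 (Or.inr rfl))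
  · exact ⟨v, hv, e⟩
  · exfalso
    refine (chk_pair_z v hv).2 (C.inj _ (T_lt (T_lt (T_lt (chk_j.1 v hv) (by norm_num))
      (T_lt (chk_j.1 v hv) (by norm_num))) (T_lt (chk_j.1 v hv) (by norm_num))) 0 (by norm_num) ?_)
    rw [← C.mul _ (T_lt (T_lt (chk_j.1 v hv) (by norm_num)) (T_lt (chk_j.1 v hv) (by norm_num))) _
      (T_lt (chk_j.1 v hv) (by norm_num)),
      ← C.mul _ (T_lt (chk_j.1 v hv) (by norm_num)) _ (T_lt (chk_j.1 v hv) (by norm_num)),
      ← C.mul _ (chk_j.1 v hv) 81 (by norm_num), ← e, C.el_zero, ← pow_three', conj_pow,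
      C.VJ_cube ⟨u, hu, rfl⟩, mul_one, mul_inv_cancel]

/-- The normaliser of the abelian subgroup in the centraliser of the involution. -/
theorem norm_range (hO : ∀ v < 27, C.Orb v ↔ v ∈ O8) {g : G} (hg : g ∈ Subgroup.normalizer (C.VJ : Set G))
    (hz : Commute g (el 81)) : ∃ h : GMod, g = emb C S N h ∨ g = emb C S N h * el 81 := by
  obtain ⟨A, hA, hAg⟩ := C.act_norm hg
  have hcz : ∀ v < 27, app A (app zMap v) = app zMap (app A v) := fun v hv => by
    refine C.vi_inj (app_lt _ _) (app_lt _ _) ?_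
    rw [← hAg _ (app_lt _ _), ← C.conj_z hv, ← C.conj_z (app_lt A v), ← hAg v hv,
      show g * (el 81 * el (vi v) * (el 81)⁻¹) * g⁻¹ = (g * el 81) * el (vi v) * (g * el 81)⁻¹ by group,
      hz.eq]
    group
  have hpres : ∀ v ∈ O8, app A v ∈ O8 := fun v hv =>
    (hO _ (app_lt _ _)).1 (C.orb_app hA ((chk_pres_lt O8 (by simp)).1 v hv)
      ((hO v ((chk_pres_lt O8 (by simp)).1 v hv)).2 hv))
  have hA1 : A.1 ∈ O8 := by
    have h := hpres 1 (by decide)
    obtain ⟨a, q, r⟩ := A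
    obtain ⟨h1, h2, h3, -⟩ := hA
    have e : app (a, q, r) 1 = a := by
      have h := C.el_app h1 h2 h3 1
      simp at h
      exact C.vi_inj (app_lt _ _) h1 h
    rwa [e] at h
  have hOk : Ok A = true := by
    obtain ⟨a, q, r⟩ := A
    exact chk_cases a hA1 q hA.2.1 r hA.2.2.1
      (List.all_eq_true.2 fun v hv => List.contains_iff_mem.2 (hpres v hv)) (C.not_sing hA) hcz
  have hsv : ∀ v < 27, s * el (vi v) * s⁻¹ = el (vi (app swMap v)) := S.act
  obtain ⟨h₀, hh₀⟩ : ∃ h : GMod, emb C S N h * el (vi 1) * (emb C S N h)⁻¹ = el (vi (app A 1)) ∧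
      emb C S N h * el (vi 18) * (emb C S N h)⁻¹ = el (vi (app A 18)) := by
    simp only [Ok, List.contains_iff_mem, List.mem_cons, List.not_mem_nil, or_false, Prod.mk.injEq] at hOk
    obtain ⟨es, -, -, -, em, en, -⟩ := chk_images
    obtain ⟨-, -, vs, vms⟩ := emb_vals C S N
    have hm : emb C S N (rep (0, 2) * rep (2, 0)) = m := by
      rw [map_mul, vs, vms, mul_assoc, S.sq, mul_one]
    rcases hOk with ⟨a, b⟩ | ⟨a, b⟩ | ⟨a, b⟩ | ⟨a, b⟩ <;> rw [a, b]
    · exact ⟨1, by simp, by simp⟩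
    · refine ⟨rep (2, 0), ?_, ?_⟩ <;> rw [vs, hsv _ (by norm_num)]
      · rw [es]
      · rw [chk_images.2.1]
    · refine ⟨rep (0, 2) * rep (2, 0), ?_, ?_⟩ <;> rw [hm, N.act _ (by norm_num)]
      · rw [← C.orb_inv (by norm_num), em]
      · rw [← C.orb_inv (by norm_num), en]
    · refine ⟨rep (0, 2), ?_, ?_⟩ <;>
        rw [vms, show ∀ x, m * s * x * (m * s)⁻¹ = m * (s * x * s⁻¹) * m⁻¹ from fun x => by group,
          hsv _ (by norm_num)]
      · rw [es, N.act _ (by norm_num), ← C.orb_inv (by norm_num), en]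
      · rw [chk_images.2.1, N.act _ (by norm_num), ← C.orb_inv (by norm_num), em]
  set k := emb C S N h₀ with hk
  have hc : ∀ w, w = 1 ∨ w = 18 → Commute (k⁻¹ * g) (el (vi w)) := by
    intro w hw
    have e : k * el (vi w) * k⁻¹ = el (vi (app A w)) := by
      rcases hw with rfl | rfl
      exacts [hh₀.1, hh₀.2]
    have e' := hAg w (by omega)
    refine mul_inv_eq_iff_eq_mul.1 ?_
    rw [show k⁻¹ * g * el (vi w) * (k⁻¹ * g)⁻¹ = k⁻¹ * (g * el (vi w) * g⁻¹) * k by group, e', ← e]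
    group
  obtain ⟨v, hv, hve⟩ := cent_plane C (hc 1 (Or.inl rfl)) (hc 18 (Or.inr rfl))
  have hvz : Commute (el (vi v)) (el 81) := by
    have hkg : Commute (k⁻¹ * g) (el 81) := ((emb_z C S N h₀).inv_left).mul_left hz
    rcases hve with e | e <;> rw [e] at hkg
    · exact hkg
    · have := hkg.mul_left (Commute.refl (el 81))
      rwa [mul_assoc, C.z_sq, mul_one] at this
  have hvp : v ∈ plane := (chk_pair_z v hv).1 (C.inj _ (cj_lt (chk_j.1 v hv) (by norm_num)) 81 (by norm_num) (by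
    rw [← C.conj (chk_j.1 v hv) (by norm_num), hvz.eq, mul_inv_cancel_right]))
  obtain ⟨t, -, hte⟩ := emb_plane C S N hvp
  refine ⟨h₀ * t, ?_⟩
  rw [map_mul, hte, ← hk]
  rcases hve with e | e
  · left; rw [← e, mul_inv_cancel_left]
  · right; rw [mul_assoc, ← e, mul_inv_cancel_left]

end Cfsg.Agent.S3342CentZ
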