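import Cfsg.Agent.Lib.S3342CentZ.Model
import Cfsg.Agent.Lib.GridBlock.OfReps

/-!
The centraliser of the involution modulo the involution satisfies the hypotheses of the block theorem.
-/

set_option autoImplicit false
set_option maxRecDepth 20000
set_option synthInstance.maxSize 10000
set_option linter.style.haveILetI false
set_option linter.unusedSectionVars false

namespace Cfsg.Agent.S3342CentZ

open Cfsg.Agent.Hayden Cfsg.Agent.GridBlock
open Cfsg.Agent.ThreeTI.Grid (rep)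

/-- The quaternion group in the Levi factor, by index. -/
def q8 : List ℕ := (List.range 24).filter fun k => T (T (27 * k) (27 * k)) (T (27 * k) (27 * k)) == 0

theorem chk_q8 : (∀ k ∈ q8, 27 * k < 648 ∧ T (27 * k) 81 = T 81 (27 * k) ∧ T (27 * k) 9 = T 9 (27 * k) ∧
      (T (27 * k) (27 * k) = 0 ∨ T (27 * k) (27 * k) = 81) ∧ (∃ l ∈ q8, T (27 * k) (27 * l) = 0)) ∧
    (∀ k ∈ q8, ∀ l ∈ q8, ∃ j ∈ q8, T (27 * k) (27 * l) = 27 * j) ∧ 0 ∈ q8 ∧ 3 ∈ q8 := by decide +kernel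

theorem chk_cent_az : ∀ i < 648, T i 81 = T 81 i →
    (∃ k ∈ q8, ∃ v ∈ plane, T (27 * k) (vi v) = i) ∧ (∀ k ∈ q8, ∃ l ∈ q8, cj i (27 * k) = 27 * l) := by
  decide +kernel

variable {G : Type*} [Group G] [Finite G] {el : ℕ → G}

/-- The quaternion group. -/
def quat (C : Cfg el) : Subgroup G where
  carrier := {g | ∃ k ∈ q8, el (27 * k) = g}
  one_mem' := ⟨0, chk_q8.2.2.1, C.el_zero⟩
  mul_mem' := by
    rintro _ _ ⟨k, hk, rfl⟩ ⟨l, hl, rfl⟩
    obtain ⟨j, hj, e⟩ := chk_q8.2.1 k hk l hl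
    exact ⟨j, hj, by rw [C.mul _ (chk_q8.1 k hk).1 _ (chk_q8.1 l hl).1, e]⟩
  inv_mem' := by
    rintro _ ⟨k, hk, rfl⟩
    obtain ⟨l, hl, e⟩ := (chk_q8.1 k hk).2.2.2.2
    exact ⟨l, hl, (inv_eq_of_mul_eq_one_right (by
      rw [C.mul _ (chk_q8.1 k hk).1 _ (chk_q8.1 l hl).1, e, C.el_zero])).symm⟩

theorem quat_sq (C : Cfg el) {n : G} (hn : n ∈ quat C) : n * n = 1 ∨ n * n = el 81 := by
  obtain ⟨k, hk, rfl⟩ := hn
  rw [C.mul _ (chk_q8.1 k hk).1 _ (chk_q8.1 k hk).1]
  rcases (chk_q8.1 k hk).2.2.2.1 with e | e <;> rw [e]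
  · exact Or.inl C.el_zero
  · exact Or.inr rfl

theorem quat_comm (C : Cfg el) {n : G} (hn : n ∈ quat C) : Commute n (el 81) ∧ Commute n (el 9) := by
  obtain ⟨k, hk, rfl⟩ := hn
  exact ⟨(C.comm_iff (chk_q8.1 k hk).1 (by norm_num)).2 (chk_q8.1 k hk).2.1,
    (C.comm_iff (chk_q8.1 k hk).1 (by norm_num)).2 (chk_q8.1 k hk).2.2.1⟩

theorem z_mem_quat (C : Cfg el) : el 81 ∈ quat C := ⟨3, chk_q8.2.2.2, rfl⟩

theorem not_three_dvd_of_pow (Q : Subgroup G) (h : ∀ x ∈ Q, x * x * (x * x) = 1) : ¬ 3 ∣ Nat.card Q := by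
  intro hd
  haveI : Fact (Nat.Prime 3) := ⟨Nat.prime_three⟩
  obtain ⟨x, hx⟩ := exists_prime_orderOf_dvd_card' (G := Q) 3 hd
  have h4 : orderOf x ∣ 4 := orderOf_dvd_of_pow_eq_one (Subtype.ext (by
    rw [show (4 : ℕ) = 2 + 2 from rfl, pow_add, pow_two]
    exact h x x.2))
  rw [hx] at h4
  norm_num at h4

/-- The core data at the element `el 63`. -/
structure Core63 {s m : G} (C : Cfg el) (S : C.Sw s) (N : C.Neg s m) (U : Subgroup G) : Prop where
  mem : ∀ u ∈ U, Commute u (el 81) ∧ Commute u (el (vi 19))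
  z_mem : el 81 ∈ U
  nor : ∀ g, Commute g (el 81) → Commute g (el (vi 19)) → ∀ u ∈ U, g * u * g⁻¹ ∈ U
  cop : ¬ 3 ∣ Nat.card U
  dec : ∀ g, Commute g (el 81) → Commute g (el (vi 19)) → ∃ u ∈ U, ∃ h : GMod, g = u * emb C S N h

/-- The small case. -/
theorem core63_small {s m : G} (C : Cfg el) (S : C.Sw s) (N : C.Neg s m)
    (hO : ∀ v < 27, C.Orb v ↔ v ∈ O8)
    (h : ∀ g, Commute g (el (vi 19)) → g ∈ Subgroup.normalizer (C.VJ : Set G)) :
    Core63 C S N (Subgroup.zpowers (el 81)) := by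
  have hmem : ∀ u ∈ Subgroup.zpowers (el 81), u = 1 ∨ u = el 81 := by
    intro u hu
    obtain ⟨n, rfl⟩ := (isOfFinOrder_of_finite _).mem_powers_iff_mem_zpowers.2 hu
    show el 81 ^ n = 1 ∨ el 81 ^ n = el 81
    rcases Nat.even_or_odd' n with ⟨k, rfl | rfl⟩
    · left; rw [pow_mul, pow_two, C.z_sq, one_pow]
    · right; rw [pow_succ, pow_mul, pow_two, C.z_sq, one_pow, one_mul]
  refine ⟨fun u hu => ?_, Subgroup.mem_zpowers _, fun g hg _ u hu => ?_, ?_, fun g hgz hgf => ?_⟩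
  · rcases hmem u hu with rfl | rfl
    · exact ⟨Commute.one_left _, Commute.one_left _⟩
    · exact ⟨Commute.refl _, plane_z C (by decide)⟩
  · rcases hmem u hu with rfl | rfl
    · rw [mul_one, mul_inv_cancel]; exact one_mem _
    · rw [hg.eq, mul_inv_cancel_right]; exact Subgroup.mem_zpowers _
  · refine not_three_dvd_of_pow _ fun x hx => ?_
    rcases hmem x hx with rfl | rfl
    · simp
    · rw [C.z_sq, one_mul]
  · obtain ⟨k, e | e⟩ := norm_range C S N hO (h g hgf) hgz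
    · exact ⟨1, one_mem _, k, by rw [one_mul, e]⟩
    · exact ⟨el 81, Subgroup.mem_zpowers _, k, by rw [e, (emb_z C S N k).eq]⟩

/-- The centraliser of the involution. -/
abbrev cz (el : ℕ → G) : Subgroup G := Subgroup.centralizer ({el 81} : Set G)

/-- The group generated by the involution, inside its centraliser. -/
abbrev zs (el : ℕ → G) : Subgroup (cz el) := (Subgroup.zpowers (el 81)).subgroupOf (cz el)

instance zs_normal : (zs el).Normal := ⟨fun n hn g => by
  rw [Subgroup.mem_subgroupOf] at hn ⊢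
  obtain ⟨k, hk⟩ := hn
  have hg : Commute (g : G) (el 81) := Subgroup.mem_centralizer_singleton_iff.1 g.2
  have hk' : el 81 ^ k = (n : G) := hk
  rw [Subgroup.coe_mul, Subgroup.coe_mul, Subgroup.coe_inv, ← hk', (hg.zpow_right k).eq, mul_inv_cancel_right]
  exact Subgroup.zpow_mem_zpowers _ _⟩

theorem mk_eq_mk (C : Cfg el) {a b : cz el} :
    QuotientGroup.mk' (zs el) a = QuotientGroup.mk' (zs el) b ↔ (a : G) = b ∨ (a : G) = b * el 81 := by
  rw [eq_comm, QuotientGroup.mk'_apply, QuotientGroup.mk'_apply, QuotientGroup.eq, Subgroup.mem_subgroupOf,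
    Subgroup.coe_mul, Subgroup.coe_inv]
  constructor
  · intro h
    obtain ⟨n, hn⟩ := (isOfFinOrder_of_finite _).mem_powers_iff_mem_zpowers.2 h
    have hn' : el 81 ^ n = (b : G)⁻¹ * a := hn
    rcases Nat.even_or_odd' n with ⟨k, rfl | rfl⟩
    · left
      rw [pow_mul, pow_two, C.z_sq, one_pow] at hn'
      exact (inv_mul_eq_one.1 hn'.symm).symm
    · right
      rw [pow_succ, pow_mul, pow_two, C.z_sq, one_pow, one_mul] at hn'
      rw [hn', mul_inv_cancel_left]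
  · rintro (e | e) <;> rw [e]
    · rw [inv_mul_cancel]; exact one_mem _
    · rw [inv_mul_cancel_left]; exact Subgroup.mem_zpowers _

theorem exact_of_mod (C : Cfg el) {x y : G} (hx : x ^ 3 = 1) (hy : y ^ 3 = 1) (hyz : Commute y (el 81))
    (h : x = y ∨ x = y * el 81) : x = y := by
  rcases h with h | h
  · exact h
  · exfalso
    rw [h, hyz.mul_pow, hy, one_mul, pow_three, C.z_sq, mul_one] at hx
    exact z_ne_one C hx

variable {s m : G} (C : Cfg el) (S : C.Sw s) (N : C.Neg s m)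

/-- The embedding into the centraliser. -/
def embC : GMod →* cz el :=
  (emb C S N).codRestrict _ fun h => Subgroup.mem_centralizer_singleton_iff.2 (emb_z C S N h)

/-- The embedding modulo the involution. -/
def iot : GMod →* cz el ⧸ zs el := (QuotientGroup.mk' (zs el)).comp (embC C S N)

/-- The image modulo the involution. -/
def img (el : ℕ → G) (H : Subgroup G) : Subgroup (cz el ⧸ zs el) :=
  (H.subgroupOf (cz el)).map (QuotientGroup.mk' (zs el))

theorem iot_injective : Function.Injective (iot C S N) := by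
  rw [injective_iff_map_eq_one]
  intro h hh
  refine emb_eq_one C S N ?_
  rw [iot, MonoidHom.comp_apply, ← map_one (QuotientGroup.mk' (zs el))] at hh
  rcases (mk_eq_mk C).1 hh with e | e
  · exact Or.inr e
  · exact Or.inl (e.trans (by rw [Subgroup.coe_one, one_mul]))

theorem emb_pow_three {h : GMod} (hh : h * h * h = 1) : emb C S N h ^ 3 = 1 := by
  rw [← map_pow, pow_three', hh, map_one]

/-- Moving elements of order three modulo the involution is exact. -/
theorem conj_exact {g : cz el} {h h' : GMod} (hh : h * h * h = 1) (hh' : h' * h' * h' = 1)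
    (e : QuotientGroup.mk' (zs el) g * iot C S N h * (QuotientGroup.mk' (zs el) g)⁻¹ = iot C S N h') :
    (g : G) * emb C S N h * (g : G)⁻¹ = emb C S N h' := by
  rw [iot, MonoidHom.comp_apply, MonoidHom.comp_apply, ← map_inv, ← map_mul, ← map_mul] at e
  exact exact_of_mod C (by rw [conj_pow, emb_pow_three C S N hh, mul_one, mul_inv_cancel])
    (emb_pow_three C S N hh') (emb_z C S N h') ((mk_eq_mk C).1 e)

theorem cent_lift {x : cz el ⧸ zs el} {h : GMod} (hh : h * h * h = 1)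
    (hx : x ∈ Subgroup.centralizer ({iot C S N h} : Set (cz el ⧸ zs el))) :
    ∃ g : cz el, QuotientGroup.mk' (zs el) g = x ∧ Commute (g : G) (emb C S N h) := by
  obtain ⟨g, rfl⟩ := QuotientGroup.mk'_surjective (zs el) x
  refine ⟨g, rfl, mul_inv_eq_iff_eq_mul.1 (conj_exact C S N hh hh ?_)⟩
  rw [Subgroup.mem_centralizer_singleton_iff.1 hx, mul_inv_cancel_right]

theorem emb_nine : el 9 = emb C S N (rep (1, 1))⁻¹ ∧
    ((rep (1, 1))⁻¹ : GMod) * (rep (1, 1))⁻¹ * (rep (1, 1))⁻¹ = 1 := by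
  refine ⟨?_, by decide +kernel⟩
  have e : emb C S N (rep (1, 1)) = el (vi 2) := by
    rw [show (rep (1, 1) : GMod) = rep (1, 0) * rep (0, 1) by decide +kernel, map_mul,
      (emb_vals C S N).1, (emb_vals C S N).2.1, ← C.el_vadd (by norm_num) (by norm_num)]
    rfl
  rw [map_inv, e, show el (vi 2) = (el 9)⁻¹ by
    rw [show vi 2 = 18 by decide +kernel, C.el_eighteen], inv_inv]

theorem iot_range_norm (hO : ∀ v < 27, C.Orb v ↔ v ∈ O8) {g : cz el}
    (hg : ∀ h : GMod, h * h * h = 1 → ∃ h' : GMod, h' * h' * h' = 1 ∧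
      (g : G) * emb C S N h * (g : G)⁻¹ = emb C S N h')
    (hg' : ∀ h : GMod, h * h * h = 1 → ∃ h' : GMod, h' * h' * h' = 1 ∧
      (g : G)⁻¹ * emb C S N h * g = emb C S N h') :
    QuotientGroup.mk' (zs el) g ∈ (iot C S N).range := by
  have hpl : ∀ {h' : GMod}, h' * h' * h' = 1 → ∃ v ∈ plane, emb C S N h' = el (vi v) := fun {h'} hh' => by
    obtain ⟨i, hi, j, hj, e, -⟩ := emb_cube C S N hh'
    exact ⟨_, (chk_pt.2.2.1 i hi j hj).1, e⟩
  have h1 : ∀ w ∈ plane, (∃ v ∈ plane, (g : G) * el (vi w) * (g : G)⁻¹ = el (vi v)) ∧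
      ∃ v ∈ plane, (g : G)⁻¹ * el (vi w) * g = el (vi v) := fun w hw => by
    obtain ⟨h, hh, e⟩ := emb_plane C S N hw
    rw [← e]
    obtain ⟨h', hh', e'⟩ := hg h hh
    obtain ⟨h'', hh'', e''⟩ := hg' h hh
    obtain ⟨v, hv, ev⟩ := hpl hh'
    obtain ⟨v', hv', ev'⟩ := hpl hh''
    exact ⟨⟨v, hv, e'.trans ev⟩, v', hv', e''.trans ev'⟩
  have hgN := norm_of_plane C (h1 1 (by decide)).1 (h1 18 (by decide)).1 (h1 1 (by decide)).2
    (h1 18 (by decide)).2
  obtain ⟨k, hk⟩ := norm_range C S N hO hgN (Subgroup.mem_centralizer_singleton_iff.1 g.2)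
  exact ⟨k, ((mk_eq_mk C).2 hk).symm⟩

theorem mem_cubes_map {x : cz el ⧸ zs el} (hx : x ∈ cubes.map (iot C S N)) :
    ∃ h : GMod, h * h * h = 1 ∧ iot C S N h = x := hx

theorem normalizer_le (hO : ∀ v < 27, C.Orb v ↔ v ∈ O8) :
    Subgroup.normalizer ((cubes.map (iot C S N) : Subgroup (cz el ⧸ zs el)) : Set (cz el ⧸ zs el)) ≤
      (iot C S N).range := by
  intro x hx
  obtain ⟨g, rfl⟩ := QuotientGroup.mk'_surjective (zs el) x
  refine iot_range_norm C S N hO (fun h hh => ?_) (fun h hh => ?_)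
  · obtain ⟨h', hh', e⟩ := mem_cubes_map C S N ((Subgroup.mem_normalizer_iff.1 hx _).1 ⟨h, hh, rfl⟩)
    exact ⟨h', hh', conj_exact C S N hh hh' e.symm⟩
  · obtain ⟨h', hh', e⟩ := mem_cubes_map C S N ((Subgroup.mem_normalizer_iff.1 (inv_mem hx) _).1 ⟨h, hh, rfl⟩)
    rw [← map_inv] at e
    have := conj_exact C S N hh hh' e.symm
    rw [Subgroup.coe_inv, inv_inv] at this
    exact ⟨h', hh', this⟩

theorem exists_sylow (hO : ∀ v < 27, C.Orb v ↔ v ∈ O8) :
    ∃ P : Sylow 3 (cz el ⧸ zs el), (P : Subgroup (cz el ⧸ zs el)) = cubes.map (iot C S N) := by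
  haveI : Fact (Nat.Prime 3) := ⟨Nat.prime_three⟩
  have hp : IsPGroup 3 (cubes.map (iot C S N) : Subgroup (cz el ⧸ zs el)) := by
    rintro ⟨x, h, hh, rfl⟩
    refine ⟨1, Subtype.ext ?_⟩
    rw [pow_one, Subgroup.coe_pow, ← map_pow, pow_three', (hh : h * h * h = 1), map_one]; rfl
  obtain ⟨P, hP⟩ := hp.exists_le_sylow
  refine ⟨P, le_antisymm ?_ hP⟩
  by_contra hne
  haveI : Group.IsNilpotent (P : Subgroup (cz el ⧸ zs el)) := P.isPGroup'.isNilpotent
  obtain ⟨y, hy, hyn⟩ : ∃ y : (P : Subgroup (cz el ⧸ zs el)),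
      y ∈ Subgroup.normalizer (((cubes.map (iot C S N)).subgroupOf (P : Subgroup (cz el ⧸ zs el)) :
        Subgroup (P : Subgroup (cz el ⧸ zs el))) : Set (P : Subgroup (cz el ⧸ zs el))) ∧
      (y : cz el ⧸ zs el) ∉ cubes.map (iot C S N) := by
    by_contra h
    push Not at h
    refine hne fun x hx => ?_
    have htop := normalizerCondition_iff_only_full_group_self_normalizing.1 (normalizerCondition_of_isNilpotent (G := (P : Subgroup (cz el ⧸ zs el))))
      ((cubes.map (iot C S N)).subgroupOf _) (le_antisymm (fun y hy => h y hy) Subgroup.le_normalizer)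
    exact Subgroup.mem_subgroupOf.1 (htop ▸ Subgroup.mem_top (⟨x, hx⟩ : (P : Subgroup (cz el ⧸ zs el))))
  have hn : (y : cz el ⧸ zs el) ∈ Subgroup.normalizer
      ((cubes.map (iot C S N) : Subgroup (cz el ⧸ zs el)) : Set (cz el ⧸ zs el)) :=
    Subgroup.mem_normalizer_fintype fun t ht =>
      Subgroup.mem_subgroupOf.1 ((Subgroup.mem_normalizer_iff.1 hy ⟨t, hP ht⟩).1 ht)
  obtain ⟨h, hh⟩ := normalizer_le C S N hO hn
  refine hyn ⟨h, ?_, hh⟩
  show h * h * h = 1
  obtain ⟨k, hk⟩ := P.isPGroup' y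
  have h1 : h ^ 3 ^ k = 1 := iot_injective C S N (by
    rw [map_pow, hh, map_one, ← Subgroup.coe_pow, hk, Subgroup.coe_one])
  have h6 := orderOf_dvd_of_pow_eq_one (Cfsg.Agent.GridBlock.six_all h)
  have h3 : orderOf h ∣ 3 := (Nat.Coprime.dvd_of_dvd_mul_left
    (Nat.Coprime.coprime_dvd_left (orderOf_dvd_of_pow_eq_one h1) (Nat.Coprime.pow_left k (by norm_num)))
    (show orderOf h ∣ 2 * 3 from h6))
  rw [← pow_three']
  exact orderOf_dvd_iff_pow_eq_one.1 h3

theorem mem_img {H : Subgroup G} {x : cz el ⧸ zs el} (hx : x ∈ img el H) :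
    ∃ g : cz el, (g : G) ∈ H ∧ QuotientGroup.mk' (zs el) g = x := hx

theorem loc1_of {H : Subgroup G} {r : GMod} (hr : r * r * r = 1)
    (hle : ∀ u ∈ H, Commute u (emb C S N r)) (hcop : ¬ 3 ∣ Nat.card H) (hz : ∀ u ∈ H, Commute u (el 81))
    (hnor : ∀ g, Commute g (el 81) → Commute g (emb C S N r) → ∀ u ∈ H, g * u * g⁻¹ ∈ H)
    (hdec : ∀ g, Commute g (el 81) → Commute g (emb C S N r) → ∃ u ∈ H, ∃ h : GMod, g = u * emb C S N h) :
    Loc1 (iot C S N) r (img el H) := by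
  refine ⟨fun x hx => ?_, fun x hx y hy => ?_, fun hd => hcop (hd.trans ?_), fun x hx => ?_⟩
  · obtain ⟨g, hg, rfl⟩ := mem_img hx
    refine Subgroup.mem_centralizer_singleton_iff.2 ?_
    rw [iot, MonoidHom.comp_apply, ← map_mul, ← map_mul]
    exact congrArg _ (Subtype.ext (hle _ hg).eq)
  · obtain ⟨g, rfl, hgc⟩ := cent_lift C S N hr hx
    obtain ⟨n, hn, rfl⟩ := mem_img hy
    refine ⟨g * n * g⁻¹, ?_, by rw [map_mul, map_mul, map_inv]⟩
    show (g : G) * n * (g : G)⁻¹ ∈ H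
    exact hnor _ (Subgroup.mem_centralizer_singleton_iff.1 g.2) hgc _ hn
  · refine (Subgroup.card_map_dvd _ _).trans (dvd_of_eq ?_)
    exact Nat.card_congr (Subgroup.subgroupOfEquivOfLe
      (fun u hu => Subgroup.mem_centralizer_singleton_iff.2 (hz u hu).eq)).toEquiv
  · obtain ⟨g, rfl, hgc⟩ := cent_lift C S N hr hx
    obtain ⟨u, hu, h, e⟩ := hdec _ (Subgroup.mem_centralizer_singleton_iff.1 g.2) hgc
    refine ⟨_, ⟨⟨u, Subgroup.mem_centralizer_singleton_iff.2 (hz u hu).eq⟩, hu, rfl⟩, h, ?_⟩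
    rw [iot, MonoidHom.comp_apply, ← map_mul]
    exact congrArg _ (Subtype.ext e)

/-- The theorem applies. -/
theorem exists_loc (hO : ∀ v < 27, C.Orb v ↔ v ∈ O8)
    (hp : ∀ g, Commute g (el (vi 10)) → g ∈ Subgroup.normalizer (C.VJ : Set G)) {U : Subgroup G}
    (hU : Core63 C S N U) :
    ∃ Q : GMod → Subgroup (cz el ⧸ zs el), ∃ O : Subgroup (cz el ⧸ zs el), Split (iot C S N) Q O ∧
      Loc (iot C S N) Q ∧
      (∀ h k : GMod, h * h * h = 1 → h ≠ 1 →
        Q (k * h * k⁻¹) = (Q h).map (MulAut.conj (iot C S N k)).toMonoidHom) ∧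
      Q (rep (0, 1)) = img el U ∧ Q (rep (1, 1)) = img el (quat C) := by
  haveI : Fact (Nat.Prime 3) := ⟨Nat.prime_three⟩
  obtain ⟨P, hP⟩ := exists_sylow C S N hO
  have e10 : Subgroup.centralizer ({iot C S N (rep (1, 0))} : Set (cz el ⧸ zs el)) ≤ (iot C S N).range := by
    intro x hx
    obtain ⟨g, rfl, hgc⟩ := cent_lift C S N (by decide +kernel) hx
    rw [(emb_vals C S N).1] at hgc
    obtain ⟨k, hk⟩ := norm_range C S N hO (hp _ hgc) (Subgroup.mem_centralizer_singleton_iff.1 g.2)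
    exact ⟨k, ((mk_eq_mk C).2 hk).symm⟩
  have hf : Loc1 (iot C S N) (rep (0, 1)) (img el U) := by
    refine loc1_of C S N (by decide +kernel) ?_ hU.cop (fun u hu => (hU.mem u hu).1) ?_ ?_ <;>
      simp only [(emb_vals C S N).2.1]
    · exact fun u hu => (hU.mem u hu).2
    · exact hU.nor
    · exact hU.dec
  have h9 : ∀ g : G, Commute g (emb C S N (rep (1, 1))) → ∃ i < 648, el i = g := fun g hg => by
    refine (C.mem g).1 ?_
    rw [(emb_nine C S N).1, map_inv]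
    exact hg.inv_right.eq
  have he : Loc1 (iot C S N) (rep (1, 1)) (img el (quat C)) := by
    refine loc1_of C S N (by decide +kernel) (fun u hu => ?_) ?_ (fun u hu => (quat_comm C hu).1)
      (fun g hgz hg => ?_) (fun g hgz hg => ?_)
    · have h := (quat_comm C hu).2
      rw [(emb_nine C S N).1, map_inv] at h
      simpa using h.inv_right
    · refine not_three_dvd_of_pow _ fun x hx => ?_
      rcases quat_sq C hx with e | e <;> rw [e]
      · rw [one_mul]
      · exact C.z_sq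
    · rintro u ⟨k, hk, rfl⟩
      obtain ⟨i, hi, rfl⟩ := h9 g hg
      obtain ⟨l, hl, e⟩ := (chk_cent_az i hi ((C.comm_iff hi (by norm_num)).1 hgz)).2 k hk
      exact ⟨l, hl, by rw [C.conj hi (chk_q8.1 k hk).1, e]⟩
    · obtain ⟨i, hi, rfl⟩ := h9 g hg
      obtain ⟨k, hk, v, hv, e⟩ := (chk_cent_az i hi ((C.comm_iff hi (by norm_num)).1 hgz)).1
      obtain ⟨h, -, he⟩ := emb_plane C S N hv
      exact ⟨_, ⟨k, hk, rfl⟩, h, by rw [he, C.mul _ (chk_q8.1 k hk).1 _ (chk_j.1 v (chk_pt.2.2.2 v hv).1), e]⟩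
  have hinv : ∀ n ∈ img el (quat C), n * n = 1 := fun n hn => by
    obtain ⟨g, hg, rfl⟩ := mem_img hn
    rw [← map_mul, ← map_one (QuotientGroup.mk' (zs el))]
    refine (mk_eq_mk C).2 ?_
    rw [Subgroup.coe_mul, Subgroup.coe_one, one_mul]
    exact quat_sq C hg
  obtain ⟨L, hcompat, hQf, hQe⟩ := loc_spread (iot_injective C S N) P hP
    (hP ▸ normalizer_le C S N hO) e10 hf he hinv
  obtain ⟨O, hOs⟩ := L.exists_split P hP
  exact ⟨_, O, hOs, L, hcompat, hQf, hQe⟩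

end Cfsg.Agent.S3342CentZ
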